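import Cfsg.Agent.H16.Fi24.Base

/-! Certificates for the stabiliser of a singular vector in the model group. -/

set_option autoImplicit false
set_option maxRecDepth 100000

namespace H7.Fi24L

open H16.Fi24

/-- The vector. -/
def u0 : W := ![(1, 0), (1, 0), (1, 0), (1, 0), (1, 0), (0, 1)]

/-- Its multiple. -/
def u1 : W := wW u0

theorem lab_u0 : lab u0 = 3 := by decide +kernel
theorem u0_ne : u0 ≠ 0 := by decide +kernel
theorem u1_ne : u1 ≠ 0 := by decide +kernel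
theorem u01_ne : u0 ≠ u1 := by decide +kernel

/-- The line. -/
def inU (v : W) : Prop := v = 0 ∨ v = u0 ∨ v = u1 ∨ v = u0 + u1

instance : DecidablePred inU := fun v => by unfold inU; infer_instance

/-- Its orthogonal complement. -/
def perpU (v : W) : Prop := Bf v u0 = 0 ∧ Bf v u1 = 0

instance : DecidablePred perpU := fun v => by unfold perpU; infer_instance

theorem add_self_W (v : W) : v + v = 0 :=
  funext fun i => (show ∀ a : F4, a + a = 0 by decide) (v i)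

theorem inU_perp : ∀ v : W, inU v → perpU v := by
  rintro v (rfl | rfl | rfl | rfl) <;> decide +kernel

theorem wW_inU {v : W} (h : inU v) : inU (wW v) := by
  rcases h with rfl | rfl | rfl | rfl <;> decide +kernel

theorem inU_add {v w : W} (hv : inU v) (hw : inU w) : inU (v + w) := by
  rcases hv with rfl | rfl | rfl | rfl <;> rcases hw with rfl | rfl | rfl | rfl <;> decide +kernel

theorem bf_pairs : (∃ v, Bf v u0 = 1 ∧ Bf v u1 = 0) ∧ (∃ v, Bf v u0 = 0 ∧ Bf v u1 = 1) ∧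
    ∃ v, Bf v u0 = 1 ∧ Bf v u1 = 1 := by
  refine ⟨⟨Pi.single 0 (0, 1), ?_⟩, ⟨Pi.single 0 (1, 0), ?_⟩, ⟨Pi.single 0 (1, 1), ?_⟩⟩ <;>
    decide +kernel


theorem Bf_add (x y v : W) : Bf (x + y) v = Bf x v + Bf y v := by
  have hq : ∀ u : W, qf u = ∑ j, (nz (u j) : ZMod 2) := fun u => by
    simp only [qf, cnt, Fin.sum_univ_six, Nat.cast_add]
  have key : ∀ a b c : F4, (nz (a + b + c) : ZMod 2) + nz (a + b) + nz c =
      ((nz (a + c) : ZMod 2) + nz a + nz c) + ((nz (b + c) : ZMod 2) + nz b + nz c) := by decide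
  simp only [Bf, hq, ← Finset.sum_add_distrib, Pi.add_apply]
  exact Finset.sum_congr rfl fun j _ => key _ _ _

theorem Bf_comm (x y : W) : Bf x y = Bf y x := by
  simp only [Bf, add_comm x y]
  ring

/-- The polar form, coordinatewise. -/
def bfC (v w : W) : ZMod 2 :=
  ((v 0).1 * (w 0).2 + (v 0).2 * (w 0).1) + ((v 1).1 * (w 1).2 + (v 1).2 * (w 1).1) +
  ((v 2).1 * (w 2).2 + (v 2).2 * (w 2).1) + ((v 3).1 * (w 3).2 + (v 3).2 * (w 3).1) +
  ((v 4).1 * (w 4).2 + (v 4).2 * (w 4).1) + ((v 5).1 * (w 5).2 + (v 5).2 * (w 5).1)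

theorem bfC_eq (v w : W) : Bf v w = bfC v w := by
  have key : ∀ a b : F4, (nz (a + b) : ZMod 2) + nz a + nz b = a.1 * b.2 + a.2 * b.1 := by decide
  simp only [bfC, ← key]
  simp only [Bf, qf, cnt, Pi.add_apply, Nat.cast_add]
  ring

/-- A basis of the complement. -/
def perpBasis : List W :=
  [![(1, 0), (1, 0), 0, 0, 0, 0],
    ![(0, 1), (0, 1), 0, 0, 0, 0],
    ![(1, 0), 0, (1, 0), 0, 0, 0],
    ![(0, 1), 0, (0, 1), 0, 0, 0],
    ![(1, 0), 0, 0, (1, 0), 0, 0],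
    ![(0, 1), 0, 0, (0, 1), 0, 0],
    ![(1, 0), 0, 0, 0, (1, 0), 0],
    ![(0, 1), 0, 0, 0, (0, 1), 0],
    ![(1, 1), 0, 0, 0, 0, (1, 0)],
    ![(1, 0), 0, 0, 0, 0, (0, 1)]]

theorem perpBasis_perp : ∀ v ∈ perpBasis, perpU v := by decide +kernel

theorem dual_check : ∀ d : W, perpBasis.any (fun v => bfC d v == 1) = true ∨ inU d :=
  forall_W (by decide +kernel)

theorem perp_dual {d : W} (h : ∀ v, perpU v → Bf d v = 0) : inU d := by
  refine (dual_check d).resolve_left fun hc => ?_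
  obtain ⟨v, hv, e⟩ := List.any_eq_true.1 hc
  rw [← bfC_eq, h v (perpBasis_perp v hv)] at e
  exact absurd e (by decide)


/-- Exponents of the vector. -/
def ev : Fin 6 → ZMod 3 := ![0, 0, 0, 0, 0, 1]

/-- The monomial map fixing the vector with given permutation. -/
def AMap : Equiv.Perm (Fin 6) →* Equiv.Perm W :=
  MonoidHom.mk' (fun σ => mono σ (ev - ev ∘ σ.symm)) fun σ τ => by
    rw [mono_mul]
    congr 1
    funext i
    simp only [Pi.sub_apply, Pi.add_apply, Function.comp_apply, Equiv.Perm.mul_def, Equiv.symm_trans_apply]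
    ring


/-- The three-cycle used. -/
def cyc : Equiv.Perm (Fin 6) := Equiv.swap 0 1 * Equiv.swap 1 2

/-- A product of four factors. -/
def word (a b c d : Fin 6 → ZMod 3) : Equiv.Perm W :=
  mono 1 a * (TW * mono 1 b * TW) * mono 1 c * (TW * mono 1 d * TW)


theorem isUni_mul {a b : Equiv.Perm W} (ha : IsUni ⇑a) (hb : IsUni ⇑b) : IsUni ⇑(a * b) where
  add u v := by simp only [Equiv.Perm.mul_apply, hb.add, ha.add]
  wcomm v := by simp only [Equiv.Perm.mul_apply, hb.wcomm, ha.wcomm]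
  q v := by simp only [Equiv.Perm.mul_apply, hb.q, ha.q]

theorem isUni_word (a b c d : Fin 6 → ZMod 3) : IsUni ⇑(word a b c d) := by
  have hm : ∀ e : Fin 6 → ZMod 3, IsUni ⇑(mono 1 e) := fun e => isUni_mono 1 e
  have ht : IsUni ⇑TW := isUni_TW
  rw [word]
  exact isUni_mul (isUni_mul (isUni_mul (hm a) (isUni_mul (isUni_mul ht (hm b)) ht)) (hm c))
    (isUni_mul (isUni_mul ht (hm d)) ht)

/-- Additive maps agreeing on a basis are equal. -/
theorem eq_of_basis {f g : W → W} (hf : IsUni f) (hga : ∀ u v, g (u + v) = g u + g v)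
    (hgw : ∀ v, g (wW v) = wW (g v))
    (h : ∀ i : Fin 6, f (Pi.single i (1, 0)) = g (Pi.single i (1, 0))) : f = g := by
  have key : ∀ (v : W), v = ∑ i, (Pi.single i (v i) : W) := fun v => (Finset.univ_sum_single v).symm
  let F : W →+ W := AddMonoidHom.mk' f hf.add
  let H : W →+ W := AddMonoidHom.mk' g hga
  have hw : ∀ i : Fin 6, wW (Pi.single i (1, 0)) = Pi.single i (0, 1) := by decide +kernel
  have hs : ∀ (i : Fin 6) (a : F4), f (Pi.single i a) = g (Pi.single i a) := by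
    intro i a
    have h1 := h i
    have h2 : f (Pi.single i (0, 1)) = g (Pi.single i (0, 1)) := by
      rw [← hw, hf.wcomm, hgw, h1]
    have ha : ∀ a : F4, a = 0 ∨ a = (1, 0) ∨ a = (0, 1) ∨ a = (1, 0) + (0, 1) := by decide
    rcases ha a with rfl | rfl | rfl | rfl
    · rw [Pi.single_zero]
      exact (F.map_zero).trans H.map_zero.symm
    · exact h1
    · exact h2
    · rw [Pi.single_add, hf.add, hga, h1, h2]
  funext v
  show F v = H v
  rw [key v, map_sum, map_sum]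
  exact Finset.sum_congr rfl fun i _ => hs i (v i)

theorem cyc_word : ∀ v : W,
    word ![2, 1, 0, 0, 0, 0] ![0, 0, 0, 2, 2, 2] ![0, 1, 2, 0, 0, 0] ![0, 0, 0, 1, 1, 1] v =
      mono cyc 0 v := by
  refine congrFun (eq_of_basis (isUni_word ..) (isUni_mono _ _).add (isUni_mono _ _).wcomm ?_)
  decide +kernel


/-- The first element as a matrix. -/
def n1M : Fin 6 → Fin 6 → F4 :=
  ![![0, (1, 0), (1, 0), (1, 1), (1, 1), (1, 1)],
    ![(1, 0), 0, (1, 0), (1, 1), (1, 1), (1, 1)],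
    ![(1, 0), (1, 0), 0, (1, 1), (1, 1), (1, 1)],
    ![(0, 1), (0, 1), (0, 1), (1, 0), 0, (1, 0)],
    ![(0, 1), (0, 1), (0, 1), 0, (1, 0), (1, 0)],
    ![(0, 1), (0, 1), (0, 1), (1, 0), (1, 0), 0]]

/-- The map of the matrix. -/
def n1f (v : W) : W := fun i =>
  mu (n1M i 0) (v 0) + mu (n1M i 1) (v 1) + mu (n1M i 2) (v 2) + mu (n1M i 3) (v 3) +
    mu (n1M i 4) (v 4) + mu (n1M i 5) (v 5)

theorem n1f_add (u v : W) : n1f (u + v) = n1f u + n1f v := funext fun i => by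
  simp only [n1f, Pi.add_apply, mu_add]
  abel

theorem n1f_wW (v : W) : n1f (wW v) = wW (n1f v) := funext fun i => by
  have key : ∀ a b c : F4, mu a (mu b c) = mu b (mu a c) := by decide
  simp only [n1f, wW, sm, mu_add, key]

/-- The first element. -/
def n1 : Equiv.Perm W :=
  word ![2, 2, 2, 1, 2, 0] ![1, 1, 1, 0, 2, 1] ![0, 0, 0, 0, 1, 2] ![0, 0, 0, 0, 0, 0]


theorem n1_eq : ∀ v : W, n1 v = n1f v := by
  have h : ∀ i : Fin 6, n1 (Pi.single i (1, 0)) = n1f (Pi.single i (1, 0)) := by decide +kernel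
  exact congrFun (eq_of_basis (g := n1f) (isUni_word ..) n1f_add n1f_wW h)

/-- Fifteen even permutations. -/
def sigs : List (Equiv.Perm (Fin 6)) :=
  [⟨![0, 1, 2, 3, 4, 5], ![0, 1, 2, 3, 4, 5], by decide, by decide⟩,
   ⟨![0, 1, 2, 4, 5, 3], ![0, 1, 2, 5, 3, 4], by decide, by decide⟩,
   ⟨![0, 1, 2, 5, 3, 4], ![0, 1, 2, 4, 5, 3], by decide, by decide⟩,
   ⟨![0, 1, 3, 2, 5, 4], ![0, 1, 3, 2, 5, 4], by decide, by decide⟩,
   ⟨![0, 1, 3, 4, 2, 5], ![0, 1, 4, 2, 3, 5], by decide, by decide⟩,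
   ⟨![0, 1, 4, 2, 3, 5], ![0, 1, 3, 4, 2, 5], by decide, by decide⟩,
   ⟨![0, 2, 3, 1, 4, 5], ![0, 3, 1, 2, 4, 5], by decide, by decide⟩,
   ⟨![0, 2, 3, 5, 1, 4], ![0, 4, 1, 2, 5, 3], by decide, by decide⟩,
   ⟨![0, 2, 4, 3, 1, 5], ![0, 4, 1, 3, 2, 5], by decide, by decide⟩,
   ⟨![0, 3, 4, 1, 2, 5], ![0, 3, 4, 1, 2, 5], by decide, by decide⟩,
   ⟨![1, 2, 3, 0, 5, 4], ![3, 0, 1, 2, 5, 4], by decide, by decide⟩,
   ⟨![1, 2, 3, 4, 0, 5], ![4, 0, 1, 2, 3, 5], by decide, by decide⟩,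
   ⟨![1, 2, 4, 0, 3, 5], ![3, 0, 1, 4, 2, 5], by decide, by decide⟩,
   ⟨![1, 3, 4, 2, 0, 5], ![4, 0, 3, 1, 2, 5], by decide, by decide⟩,
   ⟨![2, 3, 4, 0, 1, 5], ![3, 4, 0, 1, 2, 5], by decide, by decide⟩]

/-- Five elements moving every vector of the other half. -/
def covs : List (Bool × Equiv.Perm (Fin 6)) :=
  [(true, ⟨![0, 1, 3, 2, 5, 4], ![0, 1, 3, 2, 5, 4], by decide, by decide⟩),
   (false, ⟨![1, 2, 0, 3, 4, 5], ![2, 0, 1, 3, 4, 5], by decide, by decide⟩),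
   (true, ⟨![2, 3, 1, 5, 4, 0], ![5, 2, 0, 1, 4, 3], by decide, by decide⟩),
   (false, ⟨![1, 3, 2, 0, 4, 5], ![3, 0, 2, 1, 4, 5], by decide, by decide⟩),
   (true, ⟨![3, 0, 1, 5, 4, 2], ![1, 2, 5, 0, 4, 3], by decide, by decide⟩)]

theorem covs_even : ∀ c ∈ covs, Equiv.Perm.sign c.2 = 1 := by decide +kernel

theorem sigs_even : ∀ s ∈ sigs, Equiv.Perm.sign s = 1 := by decide +kernel

/-- The conjugates of the first element. -/
def nList : List (Equiv.Perm W) := 1 :: sigs.map fun s => AMap s * n1 * (AMap s)⁻¹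

/-- Four vectors of the complement. -/
def probes : List W :=
  [![(1, 0), (1, 0), 0, 0, 0, 0], ![(1, 0), 0, (1, 0), 0, 0, 0], ![(1, 0), 0, 0, (1, 0), 0, 0],
    ![(1, 0), 0, 0, 0, (1, 0), 0]]

theorem probes_perp : ∀ v ∈ probes, perpU v := by decide +kernel

theorem nList_distinct_check : ((probes :: sigs.map fun s => probes.map fun v =>
    AMap s (n1f (AMap s⁻¹ v))) : List (List W)).Nodup := by decide +kernel

theorem nList_distinct : (nList.map fun g => probes.map fun v => g v).Nodup := by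
  have e : (nList.map fun g => probes.map fun v => g v) =
      probes :: sigs.map fun s => probes.map fun v => AMap s (n1f (AMap s⁻¹ v)) := by
    simp only [nList, List.map_cons, List.map_map, Function.comp_def, Equiv.Perm.one_apply, List.map_id',
      Equiv.Perm.mul_apply, map_inv, n1_eq]
  rw [e]
  exact nList_distinct_check


theorem cov_check_aux : ∀ v : W, bfC v u0 = 0 → bfC v u1 = 1 →
    covs.any (fun c => bfC (if c.1 then n1f (AMap c.2 v) else AMap c.2 v) v == 1) = true :=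
  forall_W (by decide +kernel)

theorem cov_check : ∀ v : W, Bf v u0 = 0 → Bf v u1 = 1 →
    covs.any (fun c => Bf ((if c.1 then n1 * AMap c.2 else AMap c.2) v) v == 1) = true := by
  intro v h0 h1
  have h := cov_check_aux v (bfC_eq v u0 ▸ h0) (bfC_eq v u1 ▸ h1)
  rw [List.any_eq_true] at h ⊢
  obtain ⟨c, hc, e⟩ := h
  refine ⟨c, hc, ?_⟩
  rw [bfC_eq]
  obtain ⟨b, s⟩ := c
  cases b
  · exact e
  · simpa [Equiv.Perm.mul_apply, n1_eq] using e


theorem n1_u0 : n1 u0 = u0 := by rw [n1_eq]; decide +kernel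

theorem n1_perp_check : ∀ v : W, bfC v u0 = 0 → bfC v u1 = 0 → inU (n1f v + v) :=
  forall_W (by decide +kernel)

theorem n1_perp (v : W) (h : perpU v) : inU (n1 v + v) := by
  rw [n1_eq]
  exact n1_perp_check v (bfC_eq v u0 ▸ h.1) (bfC_eq v u1 ▸ h.2)

end H7.Fi24L
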