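import Mathlib
import Cfsg.Prelude.Def_Local

/-! Automorphisms of an elementary abelian group of order eight. -/

set_option autoImplicit false

namespace H7.Fi24L

/-- The three-dimensional space. -/
abbrev V3 : Type := Fin 3 → ZMod 2

/-- The natural action of the special linear group. -/
noncomputable def slAct : Matrix.SpecialLinearGroup (Fin 3) (ZMod 2) →* MulAut (Multiplicative V3) :=
  MonoidHom.mk' (fun g => (Matrix.SpecialLinearGroup.toLin' g).toAddEquiv.toMultiplicative) fun g h => by
    refine MulEquiv.ext fun x => ?_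
    show Multiplicative.ofAdd (((g * h : Matrix.SpecialLinearGroup (Fin 3) (ZMod 2)) : Matrix (Fin 3) (Fin 3) (ZMod 2)).mulVec x.toAdd) =
      Multiplicative.ofAdd ((g : Matrix (Fin 3) (Fin 3) (ZMod 2)).mulVec ((h : Matrix (Fin 3) (Fin 3) (ZMod 2)).mulVec x.toAdd))
    rw [Matrix.mulVec_mulVec, Matrix.SpecialLinearGroup.coe_mul]

theorem slAct_apply (g : Matrix.SpecialLinearGroup (Fin 3) (ZMod 2)) (v : V3) :
    (slAct g (Multiplicative.ofAdd v)).toAdd = (g : Matrix (Fin 3) (Fin 3) (ZMod 2)).mulVec v := rfl

theorem slAct_bijective : Function.Bijective slAct := by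
  refine ⟨fun g h e => ?_, fun φ => ?_⟩
  · refine Subtype.ext (Matrix.toLin'.injective (LinearMap.ext fun v => ?_))
    simp only [Matrix.toLin'_apply, ← slAct_apply, e]
  · let f : V3 →+ V3 := φ.toMonoidHom.toAdditive
    let f' : V3 →+ V3 := φ.symm.toMonoidHom.toAdditive
    set M := LinearMap.toMatrix' (f.toZModLinearMap 2)
    set M' := LinearMap.toMatrix' (f'.toZModLinearMap 2)
    have hM : ∀ v, M.mulVec v = (φ (Multiplicative.ofAdd v)).toAdd := fun v => by
      rw [← Matrix.toLin'_apply, Matrix.toLin'_toMatrix']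
      rfl
    have hM' : ∀ v, M'.mulVec v = (φ.symm (Multiplicative.ofAdd v)).toAdd := fun v => by
      rw [← Matrix.toLin'_apply, Matrix.toLin'_toMatrix']
      rfl
    have h1 : M * M' = 1 := Matrix.toLin'.injective (LinearMap.ext fun v => by
      rw [Matrix.toLin'_apply, Matrix.toLin'_apply, Matrix.one_mulVec, ← Matrix.mulVec_mulVec, hM, hM',
        ofAdd_toAdd, MulEquiv.apply_symm_apply, toAdd_ofAdd])
    have hd : M.det * M'.det = 1 := by rw [← Matrix.det_mul, h1, Matrix.det_one]
    have hdet : M.det = 1 := by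
      revert hd
      generalize M.det = a
      generalize M'.det = b
      revert a b
      decide
    refine ⟨⟨M, hdet⟩, MulEquiv.ext fun x => ?_⟩
    exact congrArg Multiplicative.ofAdd (hM x.toAdd)

variable {V : Type*} [Group V] [Finite V]

theorem exists_coords (hsq : ∀ v : V, v * v = 1) (hcard : Nat.card V = 8) :
    Nonempty (V ≃* Multiplicative V3) := by
  classical
  have hc : ∀ a b : V, a * b = b * a := fun a b => by
    have hi : ∀ v : V, v⁻¹ = v := fun v => inv_eq_of_mul_eq_one_right (hsq v)
    have := hi (a * b)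
    rw [mul_inv_rev, hi, hi] at this
    exact this.symm
  letI : CommGroup V := { ‹Group V› with mul_comm := hc }
  letI : Module (ZMod 2) (Additive V) := AddCommGroup.zmodModule fun x => by
    show x.toMul ^ 2 = 1
    rw [pow_two]
    exact hsq _
  have : Finite (Additive V) := Finite.of_equiv V Additive.ofMul
  have hf : Module.finrank (ZMod 2) (Additive V) = 3 := by
    have h := Module.natCard_eq_pow_finrank (K := ZMod 2) (V := Additive V)
    rw [Nat.card_zmod, show Nat.card (Additive V) = 8 from hcard] at h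
    exact (Nat.pow_right_injective (le_refl 2) (h.symm.trans (by norm_num : (8 : ℕ) = 2 ^ 3)))
  let b := (Module.finBasisOfFinrankEq (ZMod 2) (Additive V) hf).equivFun
  exact ⟨{ toFun := fun v => Multiplicative.ofAdd (b (Additive.ofMul v))
           invFun := fun w => (b.symm w.toAdd).toMul
           left_inv := fun v => by simp
           right_inv := fun w => by simp
           map_mul' := fun v w => by
             rw [ofMul_mul, map_add, ofAdd_add] }⟩

theorem mulAut_equiv (hsq : ∀ v : V, v * v = 1) (hcard : Nat.card V = 8) :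
    Nonempty (MulAut V ≃* Matrix.SpecialLinearGroup (Fin 3) (ZMod 2)) := by
  obtain ⟨e⟩ := exists_coords hsq hcard
  exact ⟨(MulAut.congr e).trans (MulEquiv.ofBijective slAct slAct_bijective).symm⟩

theorem exists_swap (hsq : ∀ v : V, v * v = 1) (hcard : Nat.card V = 8) {u v : V} (hu : u ≠ 1)
    (hv : v ≠ 1) : ∃ φ : MulAut V, φ u = v := by
  obtain ⟨e⟩ := exists_coords hsq hcard
  have key : ∀ x y : V3, x ≠ 0 → y ≠ 0 → ∃ c : V3,
      (c 0 * x 0 + c 1 * x 1 + c 2 * x 2 = 1) ∧ c 0 * y 0 + c 1 * y 1 + c 2 * y 2 = 1 := by decide +kernel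
  set x := (e u).toAdd with hx
  set y := (e v).toAdd with hy
  obtain ⟨c, hcx, hcy⟩ := key x y (fun h => hu (e.injective (h.trans (congrArg Multiplicative.toAdd e.map_one).symm)))
    (fun h => hv (e.injective (h.trans (congrArg Multiplicative.toAdd e.map_one).symm)))
  let fc : V3 → ZMod 2 := fun w => c 0 * w 0 + c 1 * w 1 + c 2 * w 2
  have hfa : ∀ a b, fc (a + b) = fc a + fc b := fun a b => by
    simp only [fc, Pi.add_apply]
    ring
  have hfs : ∀ (r : ZMod 2) a, fc (r • a) = r * fc a := fun r a => by
    simp only [fc, Pi.smul_apply, smul_eq_mul]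
    ring
  let T : V3 → V3 := fun w => w + fc w • (x + y)
  have hTT : ∀ w, T (T w) = w := fun w => by
    have hxy : fc (x + y) = 0 := by rw [hfa, show fc x = 1 from hcx, show fc y = 1 from hcy]; decide
    show w + fc w • (x + y) + fc (w + fc w • (x + y)) • (x + y) = w
    rw [hfa, hfs, hxy, mul_zero, add_zero, add_assoc, ← add_smul,
      (show ∀ t : ZMod 2, t + t = 0 by decide) (fc w), zero_smul, add_zero]
  let S : Multiplicative V3 ≃* Multiplicative V3 := AddEquiv.toMultiplicative
    { toFun := T, invFun := T, left_inv := hTT, right_inv := hTT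
      map_add' := fun a b => by
        show a + b + fc (a + b) • (x + y) = a + fc a • (x + y) + (b + fc b • (x + y))
        rw [hfa, add_smul]
        abel }
  refine ⟨(e.trans S).trans e.symm, ?_⟩
  show e.symm (S (e u)) = v
  rw [MulEquiv.symm_apply_eq]
  show Multiplicative.ofAdd (x + fc x • (x + y)) = e v
  rw [show fc x = 1 from hcx, one_smul, ← add_assoc,
    (show ∀ a : V3, a + a = 0 from fun a => funext fun i => (show ∀ t : ZMod 2, t + t = 0 by decide) (a i)) x,
    zero_add]
  rfl

/-- A normal two-subgroup of the automorphism group is trivial. -/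
theorem normal_pgroup_bot (hsq : ∀ v : V, v * v = 1) (hcard : Nat.card V = 8)
    (P : Subgroup (MulAut V)) [hn : P.Normal] (hp : IsPGroup 2 P) : P = ⊥ := by
  have := Fact.mk Nat.prime_two
  obtain ⟨v, hv, hv1⟩ := hp.exists_fixed_point_of_prime_dvd_card_of_fixed_point V
    (by rw [hcard]; norm_num) (a := (1 : V)) (fun g => map_one (g : MulAut V))
  refine (Subgroup.eq_bot_iff_forall _).2 fun g hg => MulEquiv.ext fun w => ?_
  by_cases hw : w = 1
  · rw [hw, map_one, map_one]
  obtain ⟨φ, rfl⟩ := exists_swap hsq hcard (fun h => hv1 h.symm) hw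
  have h2 := hv ⟨φ⁻¹ * g * φ, by simpa using hn.conj_mem g hg φ⁻¹⟩
  change φ⁻¹ (g (φ v)) = v at h2
  rw [MulAut.inv_def, MulEquiv.symm_apply_eq] at h2
  exact h2

end H7.Fi24L
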