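import Cfsg.Agent.H16.Fi24.Model
import Cfsg.Agent.H7.Fi24L.Cert
import Mathlib.GroupTheory.SpecificGroups.Alternating.Simple

/-!
The stabiliser of a singular vector of the second kind in the model group: a normal subgroup of order
sixteen and a complement isomorphic to the alternating group of degree six.
-/

set_option autoImplicit false
set_option maxRecDepth 100000

namespace H7.Fi24L

open H16.Fi24

section uni

variable {g : Equiv.Perm W}

theorem uni_bf (hg : IsUni g) (v w : W) : Bf (g v) (g w) = Bf v w := by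
  simp only [Bf, ← hg.add, hg.q]

theorem uni_zero (hg : IsUni g) : g 0 = 0 := by
  have := hg.add 0 0
  rw [add_zero] at this
  exact left_eq_add.mp this

theorem fix_u1 (hg : g ∈ K0stab u0) : g u1 = u1 := by
  rw [u1, (isUni_K0 hg.1).wcomm, show g u0 = u0 from hg.2]

end uni

theorem perpU_map {g : Equiv.Perm W} (hg : g ∈ K0stab u0) {v : W} (h : perpU v) : perpU (g v) := by
  have hu := isUni_K0 hg.1
  refine ⟨?_, ?_⟩
  · nth_rewrite 1 [← hg.2]
    exact (uni_bf hu _ _).trans h.1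
  · nth_rewrite 1 [← fix_u1 hg]
    exact (uni_bf hu _ _).trans h.2

theorem fix_inU {g : Equiv.Perm W} (hg : g ∈ K0stab u0) {v : W} (h : inU v) : g v = v := by
  have hu := isUni_K0 hg.1
  rcases h with rfl | rfl | rfl | rfl
  · exact uni_zero hu
  · exact hg.2
  · exact fix_u1 hg
  · rw [hu.add, fix_u1 hg]
    exact congrArg (· + u1) hg.2

/-- The elements of the stabiliser acting trivially on the complement modulo the line. -/
def Nn : Subgroup (Equiv.Perm W) where
  carrier := {g | g ∈ K0stab u0 ∧ ∀ v, perpU v → inU (g v + v)}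
  one_mem' := ⟨one_mem _, fun v _ => Or.inl (add_self_W v)⟩
  mul_mem' := by
    rintro a b ⟨ha, ha'⟩ ⟨hb, hb'⟩
    refine ⟨mul_mem ha hb, fun v hv => ?_⟩
    have e : (a * b) v + v = a (b v + v) + (a v + v) := by
      rw [(isUni_K0 ha.1).add, Equiv.Perm.mul_apply, add_assoc, ← add_assoc (a v), add_self_W, zero_add]
    rw [e]
    exact inU_add (by rw [fix_inU ha (hb' v hv)]; exact hb' v hv) (ha' v hv)
  inv_mem' := by
    rintro a ⟨ha, ha'⟩
    refine ⟨inv_mem ha, fun v hv => ?_⟩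
    have h := ha' _ (perpU_map (inv_mem ha) hv)
    rw [Equiv.Perm.coe_inv, a.apply_symm_apply, add_comm] at h
    exact h

theorem Nn_le : Nn ≤ K0stab u0 := fun _ h => h.1

theorem Nn_conj {k n : Equiv.Perm W} (hk : k ∈ K0stab u0) (hn : n ∈ Nn) : k * n * k⁻¹ ∈ Nn := by
  refine ⟨mul_mem (mul_mem hk hn.1) (inv_mem hk), fun v hv => ?_⟩
  have h := hn.2 _ (perpU_map (inv_mem hk) hv)
  have e : k ((n (k⁻¹ v)) + k⁻¹ v) = (k * n * k⁻¹) v + v := by
    rw [(isUni_K0 hk.1).add, Equiv.Perm.mul_apply, Equiv.Perm.mul_apply]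
    congr 1
    exact k.apply_symm_apply v
  rw [← e, fix_inU hk h]
  exact h

/-! ### The complement -/

theorem AMap_apply (σ : Equiv.Perm (Fin 6)) : AMap σ = mono σ (ev - ev ∘ σ.symm) := rfl

theorem mono_inj_perm {σ : Equiv.Perm (Fin 6)} {d : Fin 6 → ZMod 3} (h : mono σ d = 1) : σ = 1 := by
  refine Equiv.ext fun i => ?_
  have h1 := congrFun (Equiv.ext_iff.1 h (Pi.single i (1, 0))) i
  rw [mono_apply, Equiv.Perm.one_apply, Pi.single_eq_same] at h1
  by_contra hne
  have hne' : σ.symm i ≠ i := fun e => hne (by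
    have := congrArg σ e
    rw [Equiv.apply_symm_apply] at this
    exact this.symm)
  rw [Pi.single_eq_of_ne hne', mu_zero] at h1
  exact absurd h1 (by decide)

theorem AMap_injective : Function.Injective AMap :=
  (injective_iff_map_eq_one _).2 fun _ h => mono_inj_perm h

theorem AMap_u0 (σ : Equiv.Perm (Fin 6)) : AMap σ u0 = u0 := funext fun i => by
  have key : ∀ i j : Fin 6, mu (pw (ev i - ev j)) (u0 j) = u0 i := by decide
  rw [AMap_apply, mono_apply]
  exact key i (σ.symm i)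

theorem mono_TW (σ : Equiv.Perm (Fin 6)) : mono σ 0 * TW = TW * mono σ 0 := by
  refine Equiv.ext fun v => funext fun i => ?_
  have hT : ∀ (w : W) (j : Fin 6), TW w j = (∑ k, w k) + w j := fun w j => by
    simp only [Fin.sum_univ_six]
    rfl
  have h1 : ∀ (w : W) (j : Fin 6), mono σ 0 w j = w (σ.symm j) := fun w j => by
    rw [mono_apply]
    exact mu_one _
  rw [Equiv.Perm.mul_apply, Equiv.Perm.mul_apply, h1, hT, hT, h1]
  congr 1
  simp only [h1]
  exact (Equiv.sum_comp σ.symm v).symm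

theorem mono_conj_diag (σ : Equiv.Perm (Fin 6)) (d : Fin 6 → ZMod 3) :
    mono σ 0 * mono 1 d * (mono σ 0)⁻¹ = mono 1 (d ∘ σ.symm) := by
  rw [mul_inv_eq_iff_eq_mul, mono_mul, mono_mul, mul_one, one_mul, zero_add]
  congr 1
  rw [Pi.zero_comp, add_zero]

theorem conj_mem_K0 (σ : Equiv.Perm (Fin 6)) {g : Equiv.Perm W} (hg : g ∈ K0) :
    mono σ 0 * g * (mono σ 0)⁻¹ ∈ K0 := by
  have hs : ∀ d : Fin 6 → ZMod 3, ∑ i, d i = 0 → ∑ i, (d ∘ σ.symm) i = 0 := fun d hd => by
    rw [← hd]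
    exact Equiv.sum_comp σ.symm d
  refine K0_induction (p := fun g => mono σ 0 * g * (mono σ 0)⁻¹ ∈ K0) ?_ ?_ ?_ hg
  · rw [mul_one, mul_inv_cancel]
    exact one_mem _
  · intro a b ha hb
    have := mul_mem ha hb
    simpa [mul_assoc] using this
  · intro d hd
    refine ⟨?_, ?_⟩
    · rw [mono_conj_diag]
      exact Subgroup.mem_sup_left (mem_E1.2 ⟨_, hs d hd, rfl⟩)
    · refine Subgroup.mem_sup_right (mem_E2.2 ⟨_, hs d hd, ?_⟩)
      rw [← mono_conj_diag]
      have e : TW * mono σ 0 = mono σ 0 * TW := (mono_TW σ).symm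
      have e' : (mono σ 0)⁻¹ * TW = TW * (mono σ 0)⁻¹ := (Commute.inv_left (mono_TW σ)).eq
      calc TW * (mono σ 0 * mono 1 d * (mono σ 0)⁻¹) * TW
          = (TW * mono σ 0) * mono 1 d * ((mono σ 0)⁻¹ * TW) := by simp only [mul_assoc]
        _ = _ := by rw [e, e']; simp only [mul_assoc]

theorem word_mem {a b c d : Fin 6 → ZMod 3} (ha : ∑ i, a i = 0) (hb : ∑ i, b i = 0)
    (hc : ∑ i, c i = 0) (hd : ∑ i, d i = 0) : word a b c d ∈ K0 :=
  mul_mem (mul_mem (mul_mem (Subgroup.mem_sup_left (mem_E1.2 ⟨_, ha, rfl⟩))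
    (Subgroup.mem_sup_right (mem_E2.2 ⟨_, hb, rfl⟩))) (Subgroup.mem_sup_left (mem_E1.2 ⟨_, hc, rfl⟩)))
    (Subgroup.mem_sup_right (mem_E2.2 ⟨_, hd, rfl⟩))

theorem cyc_mem : mono cyc 0 ∈ K0 := by
  rw [← Equiv.ext cyc_word]
  exact word_mem (by decide) (by decide) (by decide) (by decide)

theorem cyc_three : cyc.IsThreeCycle := by
  rw [cyc, Equiv.swap_comm (0 : Fin 6) 1]
  exact Equiv.Perm.isThreeCycle_swap_mul_swap_same (by decide) (by decide) (by decide)

/-- The permutations occurring in the group. -/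
def permsIn : Subgroup (Equiv.Perm (Fin 6)) where
  carrier := {σ | mono σ 0 ∈ K0}
  one_mem' := by
    show mono 1 0 ∈ K0
    rw [mono_one]
    exact one_mem _
  mul_mem' {a b} ha hb := by
    show mono (a * b) 0 ∈ K0
    have : mono a 0 * mono b 0 = mono (a * b) 0 := by rw [mono_mul, Pi.zero_comp, add_zero]
    rw [← this]
    exact mul_mem ha hb
  inv_mem' {a} ha := by
    show mono a⁻¹ 0 ∈ K0
    have : mono a⁻¹ 0 = (mono a 0)⁻¹ := by
      rw [eq_inv_iff_mul_eq_one, mono_mul, inv_mul_cancel, Pi.zero_comp, add_zero, mono_one]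
    rw [this]
    exact inv_mem ha

theorem alt_le_permsIn : alternatingGroup (Fin 6) ≤ permsIn := by
  rw [← Equiv.Perm.closure_three_cycles_eq_alternating, Subgroup.closure_le]
  intro τ hτ
  obtain ⟨σ, rfl⟩ := isConj_iff.1 (Equiv.Perm.isConj_of_cycleType_eq (cyc_three.trans hτ.symm))
  show mono (σ * cyc * σ⁻¹) 0 ∈ K0
  have : mono σ 0 * mono cyc 0 * (mono σ 0)⁻¹ = mono (σ * cyc * σ⁻¹) 0 := by
    rw [mul_inv_eq_iff_eq_mul, mono_mul, mono_mul, inv_mul_cancel_right, Pi.zero_comp, Pi.zero_comp]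
  rw [← this]
  exact conj_mem_K0 σ cyc_mem

theorem AMap_mem {σ : Equiv.Perm (Fin 6)} (hσ : σ ∈ alternatingGroup (Fin 6)) : AMap σ ∈ K0stab u0 := by
  refine ⟨?_, AMap_u0 σ⟩
  have e : AMap σ = mono σ 0 * mono 1 (ev ∘ σ - ev) := by
    rw [mono_mul, mul_one, AMap_apply, zero_add]
    congr 1
    funext i
    simp
  rw [e]
  refine mul_mem (alt_le_permsIn hσ) (Subgroup.mem_sup_left (mem_E1.2 ⟨_, ?_, rfl⟩))
  simp only [Pi.sub_apply, Function.comp_apply, Finset.sum_sub_distrib, Equiv.sum_comp σ ev, sub_self]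

/-- The alternating group inside the stabiliser. -/
def altHom : alternatingGroup (Fin 6) →* Equiv.Perm W :=
  AMap.comp (alternatingGroup (Fin 6)).subtype

theorem altHom_injective : Function.Injective altHom :=
  AMap_injective.comp Subtype.val_injective

theorem altHom_mem (σ : alternatingGroup (Fin 6)) : altHom σ ∈ K0stab u0 := AMap_mem σ.2

/-! ### The normal subgroup -/

theorem n1_mem : n1 ∈ Nn :=
  ⟨⟨word_mem (by decide) (by decide) (by decide) (by decide), n1_u0⟩, n1_perp⟩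

theorem nList_mem : ∀ g ∈ nList, g ∈ Nn := by
  intro g hg
  rw [nList, List.mem_cons, List.mem_map] at hg
  rcases hg with rfl | ⟨s, hs, rfl⟩
  · exact one_mem _
  · exact Nn_conj (AMap_mem (Equiv.Perm.mem_alternatingGroup.2 (sigs_even s hs))) n1_mem

theorem card_Nn_ge : 16 ≤ Nat.card Nn := by
  classical
  have hd : nList.Nodup := List.Nodup.of_map _ nList_distinct
  have hle : nList.toFinset ⊆ (Finset.univ.filter fun g => g ∈ Nn) := fun g hg => by
    simpa using nList_mem g (by simpa using hg)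
  have := Finset.card_le_card hle
  rw [List.toFinset_card_of_nodup hd] at this
  rw [Nat.card_eq_fintype_card, Fintype.card_subtype]
  exact le_trans (le_of_eq (by simp [nList, sigs])) this

theorem Nn_pow (g : Equiv.Perm W) (hg : g ∈ Nn) : g ^ 4 = 1 := by
  have hu := isUni_K0 hg.1.1
  have h2 : ∀ v, perpU v → (g ^ 2) v = v := fun v hv => by
    have h := hg.2 v hv
    have e := hu.add (g v) v
    rw [fix_inU hg.1 h] at e
    rw [pow_two, Equiv.Perm.mul_apply]
    have : g (g v) = g v + v + g v := by rw [e, add_assoc (g (g v)), add_self_W, add_zero]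
    rw [this, add_comm (g v) v, add_assoc, add_self_W, add_zero]
  have hg2 : IsUni ⇑(g ^ 2) := isUni_K0 (pow_mem hg.1.1 2)
  have h3 : ∀ p, inU ((g ^ 2) p + p) := by
    refine fun p => perp_dual fun v hv => ?_
    have e1 : Bf ((g ^ 2) p) v = Bf p v := by
      nth_rewrite 1 [← h2 v hv]
      exact uni_bf hg2 _ _
    rw [Bf_add, e1]
    exact (show ∀ a : ZMod 2, a + a = 0 by decide) _
  refine Equiv.ext fun p => ?_
  have h := h3 p
  have e := hg2.add ((g ^ 2) p) p
  rw [h2 _ (inU_perp _ h)] at e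
  rw [show g ^ 4 = g ^ 2 * g ^ 2 by rw [← pow_add], Equiv.Perm.mul_apply, Equiv.Perm.one_apply]
  have : (g ^ 2) ((g ^ 2) p) = (g ^ 2) p + p + (g ^ 2) p := by
    rw [e, add_assoc _ ((g ^ 2) p), add_self_W, add_zero]
  rw [this, add_comm _ p, add_assoc, add_self_W, add_zero]

theorem Nn_isPGroup : IsPGroup 2 Nn := fun g => ⟨2, Subtype.ext (Nn_pow g.1 g.2)⟩

theorem Nn_inf_range : Nn ⊓ altHom.range = ⊥ := by
  haveI : IsSimpleGroup (alternatingGroup (Fin 6)) := alternatingGroup.isSimpleGroup (by simp)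
  haveI hn : (Nn.comap altHom).Normal := ⟨fun n hn σ => by
    show altHom (σ * n * σ⁻¹) ∈ Nn
    rw [map_mul, map_mul, map_inv]
    exact Nn_conj (altHom_mem σ) hn⟩
  rcases hn.eq_bot_or_eq_top with h | h
  · refine (Subgroup.eq_bot_iff_forall _).2 ?_
    rintro _ ⟨hx, σ, rfl⟩
    have h1 : σ ∈ (⊥ : Subgroup (alternatingGroup (Fin 6))) := h ▸ (show σ ∈ Nn.comap altHom from hx)
    rw [Subgroup.mem_bot.1 h1, map_one]
  · exfalso
    have hm : (⟨cyc, cyc_three.mem_alternatingGroup⟩ : alternatingGroup (Fin 6)) ∈ Nn.comap altHom :=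
      h ▸ Subgroup.mem_top _
    have h4 : cyc ^ 4 = 1 := AMap_injective (by
      rw [map_pow, map_one]
      exact Nn_pow _ hm)
    exact absurd h4 (by decide)

/-- The product map. -/
theorem structure_stab (hK0 : Nat.card K0 = 9797760) :
    Nat.card Nn = 16 ∧ ∀ g ∈ K0stab u0, ∃ σ, ∃ n ∈ Nn, g = altHom σ * n := by
  classical
  let f : alternatingGroup (Fin 6) × Nn → K0stab u0 := fun x =>
    ⟨altHom x.1 * x.2, mul_mem (altHom_mem _) (Nn_le x.2.2)⟩
  have hf : Function.Injective f := by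
    rintro ⟨σ, n⟩ ⟨τ, m⟩ h
    have h' : altHom σ * (n : Equiv.Perm W) = altHom τ * m := congrArg Subtype.val h
    have e : (altHom τ)⁻¹ * altHom σ = m.val * n.val⁻¹ := by
      rw [eq_mul_inv_iff_mul_eq, mul_assoc, h', inv_mul_cancel_left]
    have h1 : (altHom τ)⁻¹ * altHom σ ∈ Nn ⊓ altHom.range :=
      ⟨by rw [e]; exact Nn.mul_mem m.2 (Nn.inv_mem n.2), ⟨τ⁻¹ * σ, by rw [map_mul, map_inv]⟩⟩
    rw [Nn_inf_range, Subgroup.mem_bot, inv_mul_eq_one] at h1
    have := altHom_injective h1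
    subst this
    exact Prod.ext rfl (Subtype.ext (mul_left_cancel h'))
  have hK : Nat.card (K0stab u0) = 5760 := by
    rw [card_K0stab hK0 u0 (by rw [lab_u0]; omega), lab_u0]
    rfl
  have hA : Nat.card (alternatingGroup (Fin 6)) = 360 := by
    rw [nat_card_alternatingGroup, Nat.card_fin]
    rfl
  have hle := Nat.card_le_card_of_injective f hf
  rw [Nat.card_prod, hA, hK] at hle
  have := card_Nn_ge
  have hN : Nat.card Nn = 16 := by omega
  refine ⟨hN, fun g hg => ?_⟩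
  have hb := (Nat.bijective_iff_injective_and_card f).2 ⟨hf, by rw [Nat.card_prod, hA, hN, hK]⟩
  obtain ⟨⟨σ, n⟩, h⟩ := hb.2 ⟨g, hg⟩
  exact ⟨σ, n, n.2, (congrArg Subtype.val h).symm⟩

/-- Moving elements. -/
theorem exists_nonorth {v : W} (h0 : Bf v u0 = 0) (h1 : Bf v u1 = 1) :
    ∃ g ∈ K0stab u0, Bf (g v) v = 1 := by
  have h := cov_check v h0 h1
  rw [List.any_eq_true] at h
  obtain ⟨⟨b, s⟩, hs, e⟩ := h
  have hs' : Equiv.Perm.sign s = 1 := covs_even (b, s) hs
  refine ⟨_, ?_, eq_of_beq e⟩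
  have hA := AMap_mem (Equiv.Perm.mem_alternatingGroup.2 hs')
  cases b
  · exact hA
  · exact mul_mem n1_mem.1 hA

end H7.Fi24L
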