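import Cfsg.Agent.H16.Fi24.Class
import Cfsg.Agent.H99.Singular
import Cfsg.Agent.CompLayer
import Cfsg.Agent.H7.Fi24L.Stab

/-!
The large extraspecial setting of the model and subgroups of the normal subgroup cut out by
subgroups of the space.
-/

set_option autoImplicit false
set_option maxRecDepth 100000

namespace H7.Fi24L

open H16.Fi24 Cfsg

universe u

variable {G : Type u} [Group G] {z : G}

/-- The largest normal two-subgroup of a centraliser, inside the group. -/
def Qf (x : G) : Subgroup G :=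
  (Cfsg.pCore 2 ↥(Subgroup.centralizer ({x} : Set G))).map (Subgroup.centralizer ({x} : Set G)).subtype

variable {Q : Subgroup (Subgroup.centralizer ({z} : Set G))} [Q.Normal] (D : Model z Q)

theorem pCore_eq [Finite G] (hF : IsOfLargeFischerTypeAt z Q) :
    Cfsg.pCore 2 ↥(Subgroup.centralizer ({z} : Set G)) = Q := by
  have := Fact.mk Nat.prime_two
  refine le_antisymm ?_ (H1.le_pCore hF.1.2.2.1.1.1)
  have h := (Cfsg.Comp.pCore_le_fitting (G := ↥(Subgroup.centralizer ({z} : Set G))) 2).trans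
    Cfsg.Comp.fitting_le_fStar
  rwa [hF.1.2.1] at h

theorem Qf_z [Finite G] (hF : IsOfLargeFischerTypeAt z Q) : Qf z = up Q := by
  rw [Qf, pCore_eq hF]

theorem largeExtra [Finite G] (hF : IsOfLargeFischerTypeAt z Q) : H99.LargeExtra Qf z := by
  obtain ⟨⟨hz, hFit, hE, -, -⟩, -⟩ := id hF
  refine ⟨fun _ => rfl, hz, ?_, ?_⟩
  · rw [Qf_z hF]
    exact H68.isExtraspecial_of_equiv
      (Subgroup.equivMapOfInjective Q _ (Subgroup.centralizer ({z} : Set G)).subtype_injective) hE
  · rw [Qf_z hF]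
    obtain ⟨D⟩ := nonempty_model hF
    intro c hc
    have hcz : c ∈ Subgroup.centralizer ({z} : Set G) := Subgroup.mem_centralizer_singleton_iff.2
      (Subgroup.mem_centralizer_iff.1 hc z ⟨zc z, D.zc_mem, rfl⟩).symm
    refine ⟨⟨c, hcz⟩, ?_, rfl⟩
    show (⟨c, hcz⟩ : Subgroup.centralizer ({z} : Set G)) ∈ Q
    rw [← hFit]
    refine Cfsg.Agent.S1265.result (Subgroup.mem_centralizer_iff.2 fun q hq => Subtype.ext ?_)
    exact Subgroup.mem_centralizer_iff.1 hc q ⟨q, hFit ▸ hq, rfl⟩

theorem Qf_conj [Finite G] (hF : IsOfLargeFischerTypeAt z Q) (g : G) :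
    Qf (g * z * g⁻¹) = (up Q).map (MulAut.conj g).toMonoidHom := by
  have L := largeExtra hF
  refine le_antisymm ?_ ?_
  · intro x hx
    have h : g⁻¹ * x * g ∈ up Q := by
      rw [← Qf_z hF]
      exact L.mem_Q_conj' g hx
    exact Subgroup.mem_map.2 ⟨_, h, by simp [mul_assoc]⟩
  · intro x hx
    obtain ⟨y, hy, rfl⟩ := Subgroup.mem_map.1 hx
    rw [← Qf_z hF] at hy
    exact L.mem_Q_conj g hy

theorem mem_att [Finite G] (hF : IsOfLargeFischerTypeAt z Q) (g : G)
    (x : Subgroup.centralizer ({z} : Set G)) : x ∈ att Q g ↔ (x : G) ∈ Qf (g * z * g⁻¹) := by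
  rw [Qf_conj hF]
  exact ⟨fun h => (Subgroup.mem_subgroupOf.1 h).1, fun h => Subgroup.mem_subgroupOf.2 ⟨h, x.2⟩⟩

/-! ### The homomorphism onto the space -/

/-- The map onto the space as a homomorphism. -/
def psi : Q →* Multiplicative W :=
  MonoidHom.mk' (fun x => Multiplicative.ofAdd (D.Φ x)) fun x y => by
    rw [← ofAdd_add]
    exact congrArg Multiplicative.ofAdd (D.map_mul x x.2 y y.2)

theorem psi_surjective : Function.Surjective (psi D) := fun w => by
  obtain ⟨x, hx, e⟩ := D.surj w.toAdd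
  exact ⟨⟨x, hx⟩, congrArg Multiplicative.ofAdd e⟩

theorem phi_one : D.Φ 1 = 0 := (D.eq_zero 1 (one_mem _)).2 (Or.inl rfl)

theorem phi_zc : D.Φ (zc z) = 0 := (D.eq_zero _ D.zc_mem).2 (Or.inr rfl)

theorem card_ker_psi (hz : orderOf z = 2) : Nat.card (psi D).ker = 2 := by
  rw [Nat.card_eq_two_iff' (1 : (psi D).ker)]
  refine ⟨⟨⟨zc z, D.zc_mem⟩, phi_zc D⟩, fun h => ?_, fun y hy => ?_⟩
  · have h2 : z = 1 := congrArg (fun t : (psi D).ker => ((t : Q) : G)) h
    rw [h2, orderOf_one] at hz
    omega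
  · rcases (D.eq_zero y.1.1 y.1.2).1 y.2 with h | h
    · exact absurd (Subtype.ext (Subtype.ext (Subtype.ext h))) hy
    · exact Subtype.ext (Subtype.ext (Subtype.ext h))

/-- The part of the normal subgroup over a subgroup of the space. -/
def preW (S : AddSubgroup W) : Subgroup G :=
  ((S.toSubgroup.comap (psi D)).map Q.subtype).map (Subgroup.centralizer ({z} : Set G)).subtype

theorem mem_preW {S : AddSubgroup W} {g : G} :
    g ∈ preW D S ↔ ∃ x : Subgroup.centralizer ({z} : Set G), x ∈ Q ∧ (x : G) = g ∧ D.Φ x ∈ S := by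
  constructor
  · rintro ⟨x, ⟨y, hy, rfl⟩, rfl⟩
    exact ⟨y, y.2, rfl, hy⟩
  · rintro ⟨x, hx, rfl, h⟩
    exact ⟨x, ⟨⟨x, hx⟩, h, rfl⟩, rfl⟩

theorem card_preW (hz : orderOf z = 2) (S : AddSubgroup W) :
    Nat.card (preW D S) = 2 * Nat.card S := by
  rw [preW, Subgroup.card_map_of_injective (Subgroup.subtype_injective _),
    Subgroup.card_map_of_injective (Subgroup.subtype_injective _)]
  let f : ↥(S.toSubgroup.comap (psi D)) →* ↥S.toSubgroup := (psi D).subgroupComap _
  have hs : Function.Surjective f := by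
    rintro ⟨w, hw⟩
    obtain ⟨x, rfl⟩ := psi_surjective D w
    exact ⟨⟨x, hw⟩, rfl⟩
  have h := f.ker.card_mul_index
  rw [Subgroup.index_ker, MonoidHom.range_eq_top.2 hs, Subgroup.card_top] at h
  have hk : Nat.card f.ker = Nat.card (psi D).ker :=
    Nat.card_congr
      { toFun := fun x => ⟨x.1.1, congrArg Subtype.val x.2⟩
        invFun := fun x => ⟨⟨x.1, by
          show psi D x.1 ∈ S.toSubgroup
          rw [MonoidHom.mem_ker.1 x.2]
          exact one_mem _⟩, Subtype.ext x.2⟩
        left_inv := fun _ => rfl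
        right_inv := fun _ => rfl }
  rw [← h, hk, card_ker_psi D hz]
  rfl

/-- The line, as a subgroup. -/
def USub : AddSubgroup W where
  carrier := {v | inU v}
  zero_mem' := Or.inl rfl
  add_mem' := inU_add
  neg_mem' {a} ha := by rwa [Set.mem_setOf_eq, neg_eq_of_add_eq_zero_right (add_self_W a)]

theorem Bf_zero (v : W) : Bf 0 v = 0 := by
  have h := Bf_add 0 0 v
  rw [add_zero] at h
  exact left_eq_add.mp h

/-- The complement, as a subgroup. -/
def PSub : AddSubgroup W where
  carrier := {v | perpU v}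
  zero_mem' := ⟨Bf_zero _, Bf_zero _⟩
  add_mem' {a b} ha hb := by
    refine ⟨?_, ?_⟩
    · rw [Bf_add, ha.1, hb.1, add_zero]
    · rw [Bf_add, ha.2, hb.2, add_zero]
  neg_mem' {a} ha := by rwa [Set.mem_setOf_eq, neg_eq_of_add_eq_zero_right (add_self_W a)]

theorem inU_card : (Finset.univ.filter fun v : W => inU v).card = 4 := by decide +kernel

theorem bfC_card : (Finset.univ.filter fun v : W => bfC v u0 = 0 ∧ bfC v u1 = 0).card = 1024 := by
  decide +kernel

theorem card_USub : Nat.card USub = 4 := by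
  classical
  rw [← inU_card, Nat.card_eq_fintype_card, ← Fintype.card_subtype]
  exact Fintype.card_congr (Equiv.refl _)

theorem card_PSub : Nat.card PSub = 1024 := by
  classical
  rw [← bfC_card, Nat.card_eq_fintype_card, ← Fintype.card_subtype]
  refine Fintype.card_congr (Equiv.subtypeEquivRight fun v => ?_)
  show perpU v ↔ _
  rw [perpU, bfC_eq, bfC_eq]

end H7.Fi24L
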