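import Cfsg.Agent.H7.Fi24L.Basic

/-!
A line of conjugates of the central involution, each in the extraspecial group of every other.
-/

set_option autoImplicit false
set_option maxRecDepth 100000

namespace H7.Fi24L

open H16.Fi24 Cfsg

universe u

variable {G : Type u} [Group G] {z : G}
  {Q : Subgroup (Subgroup.centralizer ({z} : Set G))}

/-- A conjugate of `z` lying over the chosen vector, and a lift of its multiple. -/
structure Pt (D : Model z Q) where
  a : Subgroup.centralizer ({z} : Set G)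
  ga : G
  haQ : a ∈ Q
  haΦ : D.Φ a = u0
  hga : ga * z * ga⁻¹ = (a : G)
  b : Subgroup.centralizer ({z} : Set G)
  hbQ : b ∈ Q
  hbΦ : D.Φ b = u1

theorem lab_line : lab u0 = 3 ∧ lab u1 = 3 ∧ lab (u0 + u1) = 3 := by decide +kernel

theorem k0stab_inU {v : W} (h : inU v) : v = 0 ∨ lab v = 3 := by
  rcases h with h | h | h | h
  · exact Or.inl h
  all_goals right; rw [h]
  exacts [lab_line.1, lab_line.2.1, lab_line.2.2]

/-- Normal two-subgroups of the stabiliser lie in the normal subgroup of order sixteen. -/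
theorem le_Nn_of_normal (hK0 : Nat.card K0 = 9797760) (E : Subgroup (Equiv.Perm W))
    (hE : E ≤ K0stab u0) (hp : IsPGroup 2 E) (hn : ∀ k ∈ K0stab u0, ∀ e ∈ E, k * e * k⁻¹ ∈ E) :
    E ≤ Nn := by
  haveI : IsSimpleGroup (alternatingGroup (Fin 6)) := alternatingGroup.isSimpleGroup (by simp)
  let T : Subgroup (alternatingGroup (Fin 6)) :=
    { carrier := {σ | ∃ n ∈ Nn, altHom σ * n ∈ E}
      one_mem' := ⟨1, one_mem _, by rw [map_one, one_mul]; exact one_mem _⟩
      mul_mem' := by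
        rintro σ τ ⟨n, hn', h1⟩ ⟨m, hm, h2⟩
        refine ⟨(altHom τ)⁻¹ * n * altHom τ * m, mul_mem ?_ hm, ?_⟩
        · have := Nn_conj (inv_mem (altHom_mem τ)) hn'
          rwa [inv_inv] at this
        · have := mul_mem h1 h2
          rw [map_mul]
          simpa [mul_assoc] using this
      inv_mem' := by
        rintro σ ⟨n, hn', h1⟩
        refine ⟨altHom σ * n⁻¹ * (altHom σ)⁻¹, Nn_conj (altHom_mem σ) (inv_mem hn'), ?_⟩
        have := inv_mem h1
        rw [map_inv]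
        simpa [mul_assoc] using this }
  haveI hT : T.Normal := ⟨by
    rintro σ ⟨n, hn', h1⟩ τ
    refine ⟨altHom τ * n * (altHom τ)⁻¹, Nn_conj (altHom_mem τ) hn', ?_⟩
    have := hn _ (altHom_mem τ) _ h1
    rw [map_mul, map_mul, map_inv]
    simpa [mul_assoc] using this⟩
  rcases hT.eq_bot_or_eq_top with h | h
  · intro e he
    obtain ⟨σ, n, hn', rfl⟩ := (structure_stab hK0).2 e (hE he)
    have : σ ∈ (⊥ : Subgroup (alternatingGroup (Fin 6))) := h ▸ (show σ ∈ T from ⟨n, hn', he⟩)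
    rw [Subgroup.mem_bot.1 this, map_one, one_mul]
    exact hn'
  · exfalso
    obtain ⟨n, hn', he⟩ : (⟨cyc, cyc_three.mem_alternatingGroup⟩ : alternatingGroup (Fin 6)) ∈ T :=
      h ▸ Subgroup.mem_top _
    set σ : alternatingGroup (Fin 6) := ⟨cyc, cyc_three.mem_alternatingGroup⟩
    obtain ⟨k, hk⟩ := hp ⟨_, he⟩
    have hk' : (altHom σ * n) ^ 2 ^ k = 1 := congrArg Subtype.val hk
    have hmem : ∀ m : ℕ, ((altHom σ) ^ m)⁻¹ * (altHom σ * n) ^ m ∈ Nn := by
      intro m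
      induction m with
      | zero => simp
      | succ m ih =>
        have e : ((altHom σ) ^ (m + 1))⁻¹ * (altHom σ * n) ^ (m + 1) =
            ((altHom σ)⁻¹ * (((altHom σ) ^ m)⁻¹ * (altHom σ * n) ^ m) * altHom σ) * n := by
          rw [pow_succ, pow_succ]
          group
        rw [e]
        refine mul_mem ?_ hn'
        have := Nn_conj (inv_mem (altHom_mem σ)) ih
        rwa [inv_inv] at this
    have h1 := hmem (2 ^ k)
    rw [hk', mul_one, inv_mem_iff, ← map_pow] at h1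
    have h2 : altHom (σ ^ 2 ^ k) ∈ Nn ⊓ altHom.range := ⟨h1, _, rfl⟩
    rw [Nn_inf_range, Subgroup.mem_bot] at h2
    have h3 : σ ^ 2 ^ k = 1 := altHom_injective (h2.trans (map_one _).symm)
    have h4 := orderOf_dvd_of_pow_eq_one h3
    rw [← orderOf_injective (alternatingGroup (Fin 6)).subtype Subtype.val_injective,
      Subgroup.coe_subtype, show (σ : Equiv.Perm (Fin 6)) = cyc from rfl, cyc_three.orderOf] at h4
    exact absurd (Nat.prime_three.dvd_of_dvd_pow h4) (by decide)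

variable [Finite G] [Q.Normal]

theorem exists_pt (hF : IsOfLargeFischerTypeAt z Q) (D : Model z Q) : Nonempty (Pt D) := by
  obtain ⟨s, hs, hc, hs1⟩ := exists_conjugate hF
  have hl := lab_of_isConj hF D hs hc hs1
  obtain ⟨a, ha, haΦ⟩ := D.surj u0
  obtain ⟨b, hb, hbΦ⟩ := D.surj u1
  obtain ⟨h, rfl⟩ := D.conj_of_lab hs ha (by omega) (by rw [haΦ, lab_u0, hl])
  obtain ⟨g, hg⟩ := isConj_iff.1 hc
  exact ⟨⟨_, (h : G) * g, ha, haΦ, (by rw [Subgroup.coe_mul, Subgroup.coe_mul, Subgroup.coe_inv, ← hg]; group),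
    b, hb, hbΦ⟩⟩

variable {D : Model z Q} (P : Pt D) (hF : IsOfLargeFischerTypeAt z Q)

namespace Pt

theorem a_ne : (P.a : G) ≠ z := fun h => u0_ne (P.haΦ.symm.trans ((D.eq_zero _ P.haQ).2 (Or.inr h)))

include hF in
theorem fused : Fused z Q P.a P.ga := H16.Fi24.fused hF P.haQ P.hga P.a_ne

/-- An element can be adjusted to fix the first point. -/
theorem lift_a (h : Subgroup.centralizer ({z} : Set G)) (hfix : D.ρ h u0 = u0) :
    ∃ y ∈ Q, (y * h) * P.a * (y * h)⁻¹ = P.a := by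
  have hh : h * P.a * h⁻¹ ∈ Q := Subgroup.Normal.conj_mem inferInstance _ P.haQ h
  have e : D.Φ (h * P.a * h⁻¹) = D.Φ P.a := by rw [← D.conj h _ P.haQ, P.haΦ, hfix]
  rcases D.eq_or_mul P.haQ hh e.symm with h1 | h1
  · exact ⟨1, one_mem _, by rw [one_mul]; exact (Subtype.ext h1).symm⟩
  · obtain ⟨y, hy, hys⟩ := D.conj_mul_z hh (by rw [e, P.haΦ]; exact u0_ne)
    exact ⟨y, hy, (show y * h * P.a * (y * h)⁻¹ = y * (h * P.a * h⁻¹) * y⁻¹ by group).trans
        (hys.trans (Subtype.ext h1.symm))⟩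

include hF in
/-- The lift of the multiple lies in the attached group. -/
theorem b_mem : (P.b : G) ∈ Qf (P.a : G) := by
  classical
  have hA := P.fused hF
  rw [← P.hga, ← mem_att hF]
  by_contra hb
  set E := (att Q P.ga).map D.ρ with hEdef
  have hfixE : ∀ e ∈ E, e u0 = u0 := fun e he => P.haΦ ▸ hA.image_fix D P.haQ e he
  have hle : E ⊓ K0 ≤ Nn := by
    refine le_Nn_of_normal D.card_K0 _ (fun e he => ⟨he.2, hfixE e he.1⟩) ?_ ?_
    · intro e
      exact ⟨1, Subtype.ext (by rw [Subgroup.coe_pow, pow_one, pow_two]; exact hA.image_sq D e.1 e.2.1)⟩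
    · intro k hk e he
      obtain ⟨m, -, hm⟩ := D.exists_rho hk.1
      exact ⟨hA.image_norm D P.haQ (by rw [P.haΦ]; exact u0_ne) ⟨m, hm⟩ (P.haΦ ▸ hk.2) he.1,
        K0.mul_mem (K0.mul_mem hk.1 he.2) (K0.inv_mem hk.1)⟩
  have h32 := D.card_le_two_mul E (by rintro - ⟨x, -, rfl⟩; exact ⟨x, rfl⟩)
  have h16 := Subgroup.card_le_of_le hle
  rw [(structure_stab D.card_K0).1] at h16
  set A := up Q ⊓ (up Q).map (MulAut.conj P.ga).toMonoidHom with hAdef
  have hA128 : 2 ^ 7 ≤ Nat.card A := by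
    have h := hA.card_image D
    by_contra hn
    have h2 := Nat.mul_le_mul (show Nat.card E ≤ 32 by omega) (show Nat.card A ≤ 127 by omega)
    rw [← hAdef, ← hEdef] at h
    norm_num at h h2
    omega
  have hcomm := hA.inf_elem.1.is_comm.comm
  -- some element of the intersection moves the lift
  obtain ⟨x, hx1, hx2⟩ : ∃ x ∈ A, ¬ Commute x (P.b : G) := by
    by_contra hall
    push Not at hall
    have hbA : (P.b : G) ∉ A := fun h => hb ((mem_att hF _ _).2 (Qf_conj hF P.ga ▸ h.2))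
    have hbu : (P.b : G) ∈ up Q := mem_up.2 P.hbQ
    set B := A ⊔ Subgroup.zpowers (P.b : G)
    have hBle : B ≤ up Q := sup_le inf_le_left (Subgroup.zpowers_le.2 hbu)
    have hBc : ∀ p ∈ B, ∀ q ∈ B, p * q = q * p := by
      have hc : IsMulCommutative (Subgroup.closure ((A : Set G) ∪ {(P.b : G)})) := by
        refine Subgroup.isMulCommutative_closure ?_
        rintro p (hp | rfl) q (hq | rfl)
        · exact congrArg Subtype.val (hcomm ⟨p, hp⟩ ⟨q, hq⟩)
        · exact hall p hp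
        · exact (hall q hq).symm
        · rfl
      have e : B = Subgroup.closure ((A : Set G) ∪ {(P.b : G)}) := by
        rw [Subgroup.closure_union, Subgroup.closure_eq, ← Subgroup.zpowers_eq_closure]
      intro p hp q hq
      rw [e] at hp hq
      exact congrArg Subtype.val (hc.is_comm.comm ⟨p, hp⟩ ⟨q, hq⟩)
    have hcu : Nat.card (up Q) = 2 ^ 13 := by
      rw [Subgroup.card_map_of_injective (Subgroup.subtype_injective _), hF.1.2.2.2.1]
    have hEu : IsExtraspecial 2 ↥(up Q) := Qf_z hF ▸ (largeExtra hF).hE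
    have hB := card_le_of_sq hEu (B.subgroupOf (up Q))
      ⟨⟨fun p q => Subtype.ext (Subtype.ext (hBc _ p.2 _ q.2))⟩⟩ hcu
    rw [Nat.card_congr (Subgroup.subgroupOfEquivOfLe hBle).toEquiv] at hB
    have : A = B := Subgroup.eq_of_le_of_card_ge le_sup_left (hB.trans hA128)
    exact hbA (this ▸ (le_sup_right : _ ≤ B) (Subgroup.mem_zpowers _))
  obtain ⟨x, hxQ, rfl⟩ := hx1.1
  have hxa : x ∈ att Q P.ga := Subgroup.mem_subgroupOf.2 ⟨hx1.2, x.2⟩
  have h0 : Bf (D.Φ x) u0 = 0 := by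
    rw [← P.haΦ]
    exact (D.comm x hxQ _ P.haQ).1 (mul_inv_eq_iff_eq_mul.1 (hA.comm_s x hxa))
  have h1 : Bf (D.Φ x) u1 = 1 := by
    have hne : Bf (D.Φ x) u1 ≠ 0 := fun e => hx2 (by
      have := (D.comm x hxQ _ P.hbQ).2 (P.hbΦ.symm ▸ e)
      exact congrArg Subtype.val this)
    revert hne
    generalize Bf (D.Φ x) u1 = t
    revert t
    decide
  obtain ⟨k, hk, hk1⟩ := exists_nonorth h0 h1
  obtain ⟨m, -, rfl⟩ := D.exists_rho hk.1
  obtain ⟨y, hy, hys⟩ := P.lift_a m hk.2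
  have hm : (y * m) * x * (y * m)⁻¹ ∈ Q := Subgroup.Normal.conj_mem inferInstance x hxQ _
  have hc : ((y * m) * x * (y * m)⁻¹) * x = x * ((y * m) * x * (y * m)⁻¹) := by
    refine Subtype.ext ?_
    have := congrArg Subtype.val
      (hcomm ⟨_, mem_up.2 hm, (Subgroup.mem_subgroupOf.1 (hA.normal _ hys x hxa)).1⟩ ⟨_, hx1⟩)
    exact this
  have h2 := (D.comm _ hm x hxQ).1 hc
  rw [← D.conj _ x hxQ, _root_.map_mul, D.rho_Q hy, one_mul, hk1] at h2
  exact absurd h2 (by decide)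

/-- The line. -/
def V : Subgroup G := preW D USub

include hF in
theorem hz : orderOf z = 2 := hF.1.1

theorem a_mem : (P.a : G) ∈ V (D := D) := (mem_preW D).2 ⟨P.a, P.haQ, rfl, Or.inr (Or.inl P.haΦ)⟩

theorem b_mem_V : (P.b : G) ∈ V (D := D) :=
  (mem_preW D).2 ⟨P.b, P.hbQ, rfl, Or.inr (Or.inr (Or.inl P.hbΦ))⟩

theorem z_mem : z ∈ V (D := D) := (mem_preW D).2 ⟨zc z, D.zc_mem, rfl, Or.inl (phi_zc D)⟩

theorem zz (hzo : orderOf z = 2) : z * z = 1 := by
  have := pow_orderOf_eq_one z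
  rwa [hzo, pow_two] at this

include P in
/-- The members of the line, listed. -/
theorem V_cases {g : G} (hg : g ∈ V (D := D)) :
    ∃ c ∈ ({1, P.a, P.b, P.a * P.b} : Set (Subgroup.centralizer ({z} : Set G))),
      g = c ∨ g = (c : G) * z := by
  obtain ⟨x, hx, rfl, hU⟩ := (mem_preW D).1 hg
  rcases hU with h | h | h | h
  · exact ⟨1, Or.inl rfl, D.eq_or_mul hx (one_mem _) (h.trans (phi_one D).symm)⟩
  · exact ⟨P.a, Or.inr (Or.inl rfl), D.eq_or_mul hx P.haQ (h.trans P.haΦ.symm)⟩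
  · exact ⟨P.b, Or.inr (Or.inr (Or.inl rfl)), D.eq_or_mul hx P.hbQ (h.trans P.hbΦ.symm)⟩
  · exact ⟨P.a * P.b, Or.inr (Or.inr (Or.inr rfl)), D.eq_or_mul hx (mul_mem P.haQ P.hbQ)
      (by rw [h, D.map_mul _ P.haQ _ P.hbQ, P.haΦ, P.hbΦ])⟩

include P in
theorem V_induction {p : G → Prop} (h1 : p 1) (hz : p z) (ha : p P.a) (hb : p P.b)
    (hmul : ∀ x y, p x → p y → p (x * y)) {g : G} (hg : g ∈ V (D := D)) : p g := by
  obtain ⟨c, hc, e⟩ := P.V_cases hg
  have hpc : p c := by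
    rcases hc with rfl | rfl | rfl | rfl
    · exact h1
    · exact ha
    · exact hb
    · exact hmul _ _ ha hb
  rcases e with rfl | rfl
  · exact hpc
  · exact hmul _ _ hpc hz

include hF in
theorem V_le_Qa {g : G} (hg : g ∈ V (D := D)) : g ∈ Qf (P.a : G) := by
  refine P.V_induction (one_mem _) ?_ ?_ (P.b_mem hF) (fun x y => mul_mem) hg
  · rw [← P.hga, Qf_conj hF]; exact (P.fused hF).z_mem
  · have := (largeExtra hF).self_mem (u := (P.a : G)) ⟨P.ga, P.hga⟩
    exact this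

include hF in
theorem V_sq {g : G} (hg : g ∈ V (D := D)) : g * g = 1 := by
  obtain ⟨x, hx, rfl, hU⟩ := (mem_preW D).1 hg
  have hq : ∀ v, inU v → qf v = 0 := by
    rintro v (rfl | rfl | rfl | rfl) <;> decide +kernel
  exact congrArg Subtype.val ((D.sq x hx).2 (hq _ hU))

include hF in
theorem V_card : Nat.card (V (D := D)) = 8 := by
  rw [V, card_preW D (hz hF), card_USub]

include P hF in
theorem sing {g : G} (hg : g ∈ V (D := D)) (h1 : g ≠ 1) : ∃ h : G, h * z * h⁻¹ = g := by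
  by_cases hgz : g = z
  · exact ⟨1, by rw [hgz, one_mul, inv_one, mul_one]⟩
  obtain ⟨x, hx, rfl, hU⟩ := (mem_preW D).1 hg
  have hne : D.Φ x ≠ 0 := fun e => ((D.eq_zero x hx).1 e).elim h1 hgz
  exact isConj_iff.1 ((isConj_iff_lab hF D hx hgz).2 ((k0stab_inU hU).resolve_left hne))

include P hF in
/-- Any two members are orthogonal. -/
theorem orth {u v : G} (hu : u ∈ V (D := D)) (hv : v ∈ V (D := D)) (hu1 : u ≠ 1) : v ∈ Qf u := by
  have L := largeExtra hF
  by_cases huz : u = z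
  · obtain ⟨x, hx, rfl, -⟩ := (mem_preW D).1 hv
    rw [huz, Qf_z hF]
    exact mem_up.2 hx
  obtain ⟨x, hx, rfl, hU⟩ := (mem_preW D).1 hu
  have hne : D.Φ x ≠ 0 := fun e => ((D.eq_zero x hx).1 e).elim hu1 huz
  obtain ⟨w, -, hw⟩ := D.omega
  obtain ⟨h, hh, hhU⟩ : ∃ h, D.Φ (h * P.a * h⁻¹) = D.Φ x ∧ ∀ y, inU y → inU (D.ρ h y) := by
    rcases hU with e | e | e | e
    · exact absurd e hne
    · exact ⟨1, by rw [one_mul, inv_one, mul_one, P.haΦ, e], fun y hy => by rw [map_one]; exact hy⟩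
    · refine ⟨w, ?_, fun y hy => ?_⟩
      · rw [← D.conj _ _ P.haQ, hw, P.haΦ, e]
        rfl
      · rw [hw]; exact wW_inU hy
    · refine ⟨w * w, ?_, fun y hy => ?_⟩
      · rw [← D.conj _ _ P.haQ, _root_.map_mul, Equiv.Perm.mul_apply, hw, P.haΦ, e]
        decide +kernel
      · rw [_root_.map_mul, Equiv.Perm.mul_apply, hw]; exact wW_inU (wW_inU hy)
  obtain ⟨y, hy, hys⟩ : ∃ y ∈ Q, (y * h) * P.a * (y * h)⁻¹ = x := by
    have hh' : h * P.a * h⁻¹ ∈ Q := Subgroup.Normal.conj_mem inferInstance _ P.haQ h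
    rcases D.eq_or_mul hx hh' hh.symm with h1 | h1
    · exact ⟨1, one_mem _, by rw [one_mul]; exact (Subtype.ext h1).symm⟩
    · obtain ⟨y, hy, hys⟩ := D.conj_mul_z hh' (hh ▸ hne)
      exact ⟨y, hy, (show y * h * P.a * (y * h)⁻¹ = y * (h * P.a * h⁻¹) * y⁻¹ by group).trans
        (hys.trans (Subtype.ext h1.symm))⟩
  set c : G := ((y * h : Subgroup.centralizer ({z} : Set G)) : G) with hc
  have hmap : (V (D := D)).map (MulAut.conj c).toMonoidHom ≤ V (D := D) := by
    rintro - ⟨t, ht, rfl⟩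
    obtain ⟨t, htQ, rfl, htU⟩ := (mem_preW D).1 ht
    refine (mem_preW D).2 ⟨(y * h) * t * (y * h)⁻¹, Subgroup.Normal.conj_mem inferInstance t htQ _,
      rfl, ?_⟩
    show inU _
    rw [← D.conj _ t htQ, _root_.map_mul, D.rho_Q hy, one_mul]
    exact hhU _ htU
  have heq := Subgroup.eq_of_le_of_card_ge hmap
    (le_of_eq (Subgroup.card_map_of_injective (MulAut.conj c).injective).symm)
  obtain ⟨t, ht, rfl⟩ := Subgroup.mem_map.1 (heq ▸ hv)
  have := L.mem_Q_conj c (P.V_le_Qa hF ht)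
  rw [show c * (P.a : G) * c⁻¹ = (x : G) from congrArg Subtype.val hys] at this
  exact this

end Pt

end H7.Fi24L
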