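import Cfsg.Agent.H7.Fi24L.Special

/-!
The normaliser of the line modulo its largest normal two-subgroup.
-/

set_option autoImplicit false
set_option maxRecDepth 100000

namespace H7.Fi24L

open H16.Fi24 Cfsg

universe u

variable {G : Type u} [Group G] {z : G}
  {Q : Subgroup (Subgroup.centralizer ({z} : Set G))} [Q.Normal] [Finite G]
  {D : Model z Q} (P : Pt D) (hF : IsOfLargeFischerTypeAt z Q)

namespace Pt

theorem CV_le_NV : CV (D := D) ≤ NV (D := D) := fun c hc => Subgroup.mem_normalizer_iff.2 fun v => by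
  have h : ∀ t ∈ V (D := D), c * t * c⁻¹ = t := fun t ht => by
    rw [(Subgroup.mem_centralizer_iff.1 hc t ht).symm, mul_inv_cancel_right]
  refine ⟨fun hv => (h v hv).symm ▸ hv, fun hv => ?_⟩
  have e : c * v * c⁻¹ = v := mul_left_cancel (mul_right_cancel (h _ hv))
  rwa [e] at hv

include P hF in
theorem pCore_NV :
    (Cfsg.pCore 2 ↥(NV (D := D))).map (NV (D := D)).subtype = R0 (D := D) := by
  refine le_antisymm ?_ fun r hr => ?_
  · set N := NV (D := D)
    have hsurj : Function.Surjective (V (D := D)).normalizerMonoidHom := by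
      intro φ
      obtain ⟨g, hg, h⟩ := P.induces hF φ
      exact ⟨⟨g, P.LU_le hF hg⟩, MulEquiv.ext fun u => Subtype.ext (h u)⟩
    haveI := (H1.pCore_normal' 2 ↥N).map (V (D := D)).normalizerMonoidHom hsurj
    have hbot := normal_pgroup_bot (V := ↥(V (D := D))) (fun v => Subtype.ext (V_sq hF v.2)) (V_card hF)
      ((Cfsg.pCore 2 ↥N).map (V (D := D)).normalizerMonoidHom) ((H1.isPGroup_pCore 2 _).map _)
    refine P.le_R0 hF _ ?_ ((H1.isPGroup_pCore 2 _).map _) ?_
    · rintro - ⟨x, hx, rfl⟩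
      have h1 : x ∈ (V (D := D)).normalizerMonoidHom.ker :=
        MonoidHom.mem_ker.2 (Subgroup.mem_bot.1 (hbot ▸ Subgroup.mem_map_of_mem _ hx))
      rw [Subgroup.normalizerMonoidHom_ker] at h1
      exact h1
    · rintro c hc - ⟨x, hx, rfl⟩
      exact ⟨⟨c, CV_le_NV hc⟩ * x * ⟨c, CV_le_NV hc⟩⁻¹,
        (H1.pCore_normal' 2 ↥N).conj_mem x hx _, rfl⟩
  · have hrN : r ∈ NV (D := D) := CV_le_NV (R0_le hr)
    haveI : ((R0 (D := D)).subgroupOf (NV (D := D))).Normal := ⟨fun n hn g => P.R0_conj hF g.2 hn⟩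
    exact ⟨⟨r, hrN⟩, H1.le_pCore (N := (R0 (D := D)).subgroupOf (NV (D := D)))
      ((P.R0_isPGroup hF).comap_subtype (K := NV (D := D))) hr, rfl⟩

include P hF in
theorem quotient_equiv (hn : ((R0 (D := D)).subgroupOf (NV (D := D))).Normal) :
    Nonempty (↥(NV (D := D)) ⧸ (R0 (D := D)).subgroupOf (NV (D := D)) ≃*
      Matrix.SpecialLinearGroup (Fin 3) (ZMod 2) × ↥(alternatingGroup (Fin 6))) := by
  classical
  set N := NV (D := D)
  set R := (R0 (D := D)).subgroupOf N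
  set mk := QuotientGroup.mk' R
  obtain ⟨eV⟩ := mulAut_equiv (V := ↥(V (D := D))) (fun v => Subtype.ext (V_sq hF v.2)) (V_card hF)
  -- the alternating group
  have hl : ∀ σ : alternatingGroup (Fin 6), ∃ c : CV (D := D), rV c = altHom σ :=
    fun σ => P.rV_surj hF (altHom_mem σ)
  choose lift hlift using hl
  let inN : CV (D := D) →* N := Subgroup.inclusion CV_le_NV
  have hkey : ∀ c d : CV (D := D), rV c = rV d → mk (inN c) = mk (inN d) := by
    intro c d e
    refine (QuotientGroup.mk'_eq_mk' R).2 ⟨inN (c⁻¹ * d), ?_, ?_⟩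
    · show ((c⁻¹ * d : CV (D := D)) : G) ∈ R0 (D := D)
      rw [mem_R0, _root_.map_mul, map_inv, e, inv_mul_cancel]
      exact one_mem _
    · rw [← _root_.map_mul, mul_inv_cancel_left]
  let fA : alternatingGroup (Fin 6) →* ↥N ⧸ R :=
    MonoidHom.mk' (fun σ => mk (inN (lift σ))) fun σ τ => by
      rw [← _root_.map_mul, ← _root_.map_mul]
      exact hkey _ _ (by rw [hlift, _root_.map_mul, _root_.map_mul, hlift, hlift])
  have hfA : Function.Injective fA := by
    refine (injective_iff_map_eq_one _).2 fun σ h => ?_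
    have h' : ((lift σ : CV (D := D)) : G) ∈ R0 (D := D) := (QuotientGroup.eq_one_iff (inN (lift σ))).1 h
    rw [mem_R0, hlift] at h'
    have h2 : altHom σ ∈ Nn ⊓ altHom.range := ⟨h', σ, rfl⟩
    rw [Nn_inf_range, Subgroup.mem_bot] at h2
    exact altHom_injective (h2.trans (map_one _).symm)
  have hrange : ∀ c : CV (D := D), ∃ σ, fA σ = mk (inN c) := by
    intro c
    obtain ⟨σ, n, hn', e⟩ := (structure_stab D.card_K0).2 _ (P.rV_mem hF c)
    refine ⟨σ, (QuotientGroup.mk'_eq_mk' R).2 ⟨inN ((lift σ)⁻¹ * c), ?_, ?_⟩⟩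
    · show (((lift σ)⁻¹ * c : CV (D := D)) : G) ∈ R0 (D := D)
      rw [mem_R0, _root_.map_mul, map_inv, hlift, e, inv_mul_cancel_left]
      exact hn'
    · rw [← _root_.map_mul, mul_inv_cancel_left]
  -- the join of the extraspecial groups
  set K := ((LU (D := D)).subgroupOf N).map mk
  have hcomm : ∀ g ∈ LU (D := D), g ∈ N ∧ ∀ c ∈ CV (D := D), g * c * g⁻¹ * c⁻¹ ∈ R0 (D := D) := by
    intro g hg
    refine H99.LargeExtra.LU_induction (U := V (D := D)) (LU := LU (D := D)) rfl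
      (p := fun g => g ∈ N ∧ ∀ c ∈ CV (D := D), g * c * g⁻¹ * c⁻¹ ∈ R0 (D := D)) ?_ ?_ ?_ hg
    · exact ⟨one_mem _, fun c _ => by simp⟩
    · rintro a b ⟨ha, ha'⟩ ⟨hb, hb'⟩
      refine ⟨mul_mem ha hb, fun c hc => ?_⟩
      have e : a * b * c * (a * b)⁻¹ * c⁻¹ = (a * (b * c * b⁻¹ * c⁻¹) * a⁻¹) * (a * c * a⁻¹ * c⁻¹) := by
        group
      rw [e]
      exact mul_mem (P.R0_conj hF ha (hb' c hc)) (ha' c hc)
    · intro u hu hu1 g hg'
      have L := largeExtra hF
      have hgL : g ∈ LU (D := D) := H99.LargeExtra.mem_LU (U := V (D := D)) rfl hu hu1 hg'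
      refine ⟨P.LU_le hF hgL, fun c hc => ?_⟩
      have hcu : Commute c u := (Subgroup.mem_centralizer_iff.1 hc u hu).symm
      have hx : g * c * g⁻¹ * c⁻¹ ∈ Qf u := by
        have := mul_mem hg' (L.conj_mem (inv_mem hg') hcu)
        simpa [mul_assoc] using this
      have hgN := P.LU_le hF hgL
      have hy : g * c * g⁻¹ * c⁻¹ ∈ CV (D := D) := by
        refine mul_mem ?_ (inv_mem hc)
        rw [Subgroup.mem_centralizer_iff]
        intro t ht
        have ht' : g⁻¹ * t * g ∈ V (D := D) := by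
          have := (Subgroup.mem_normalizer_iff.1 (inv_mem hgN) t).1 ht
          simpa using this
        have e := Subgroup.mem_centralizer_iff.1 hc _ ht'
        calc t * (g * c * g⁻¹) = g * (g⁻¹ * t * g * c) * g⁻¹ := by group
          _ = g * (c * (g⁻¹ * t * g)) * g⁻¹ := by rw [e]
          _ = _ := by group
      refine P.le_R0 hF (Qf u ⊓ CV (D := D)) inf_le_right ((L.isPGroup_Q u).to_le inf_le_left) ?_ ⟨hx, hy⟩
      rintro d hd s ⟨hs, hs'⟩
      exact ⟨L.conj_mem hs (Subgroup.mem_centralizer_iff.1 hd u hu).symm,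
        (CV (D := D)).mul_mem ((CV (D := D)).mul_mem hd hs') ((CV (D := D)).inv_mem hd)⟩
  have hKA : ∀ k ∈ K, ∀ σ, Commute k (fA σ) := by
    rintro - ⟨g, hg, rfl⟩ σ
    have h := (hcomm g hg).2 _ (lift σ).2
    refine mul_inv_eq_iff_eq_mul.1 (mul_inv_eq_one.1 ?_)
    show mk g * mk (inN (lift σ)) * (mk g)⁻¹ * (mk (inN (lift σ)))⁻¹ = 1
    rw [← map_inv, ← map_inv, ← _root_.map_mul, ← _root_.map_mul, ← _root_.map_mul]
    exact (QuotientGroup.eq_one_iff _).2 h
  let F : K × alternatingGroup (Fin 6) →* ↥N ⧸ R :=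
    MonoidHom.noncommCoprod K.subtype fA fun k σ => hKA k k.2 σ
  have hinter : ∀ σ, fA σ ∈ K → σ = 1 := by
    intro σ h
    have hc : σ ∈ Subgroup.center (alternatingGroup (Fin 6)) := Subgroup.mem_center_iff.2 fun τ => hfA (by
      rw [_root_.map_mul, _root_.map_mul]
      exact (hKA _ h τ).eq.symm)
    exact Subgroup.mem_bot.1 (alternatingGroup.center_eq_bot (α := Fin 6) (by simp) ▸ hc)
  have hFinj : Function.Injective F := by
    refine (injective_iff_map_eq_one _).2 fun x h => ?_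
    obtain ⟨k, σ⟩ := x
    have h' : (k : ↥N ⧸ R) * fA σ = 1 := h
    have hk : fA σ ∈ K := by
      rw [← inv_eq_of_mul_eq_one_right h']
      exact inv_mem k.2
    have hσ := hinter σ hk
    subst hσ
    rw [map_one, mul_one] at h'
    exact Prod.ext (Subtype.ext h') rfl
  have hpdec : ∀ n : N, ∃ g : N, (g : G) ∈ LU (D := D) ∧ ∃ c : CV (D := D), n = g * inN c := by
    intro n
    obtain ⟨g, hg, h⟩ := P.induces hF ((V (D := D)).normalizerMonoidHom n)
    refine ⟨⟨g, P.LU_le hF hg⟩, hg, ⟨g⁻¹ * n, ?_⟩, Subtype.ext (mul_inv_cancel_left g n).symm⟩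
    rw [Subgroup.mem_centralizer_iff]
    intro t ht
    have e : g * t * g⁻¹ = n * t * (n : G)⁻¹ := h ⟨t, ht⟩
    calc t * (g⁻¹ * n) = g⁻¹ * (g * t * g⁻¹) * n := by group
      _ = g⁻¹ * (n * t * (n : G)⁻¹) * n := by rw [e]
      _ = _ := by group
  have hFsurj : Function.Surjective F := by
    intro x
    obtain ⟨n, rfl⟩ := QuotientGroup.mk'_surjective R x
    obtain ⟨g, hg, c, rfl⟩ := hpdec n
    obtain ⟨σ, hσ⟩ := hrange c
    refine ⟨(⟨mk g, ⟨g, hg, rfl⟩⟩, σ), ?_⟩
    show mk g * fA σ = mk (g * inN c)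
    rw [_root_.map_mul, hσ]
  -- the action on the line
  have hRker : R ≤ (V (D := D)).normalizerMonoidHom.ker := fun r hr => by
    rw [Subgroup.normalizerMonoidHom_ker]
    exact R0_le hr
  let p : ↥N ⧸ R →* MulAut ↥(V (D := D)) := QuotientGroup.lift R _ hRker
  let pK : K →* MulAut ↥(V (D := D)) := p.comp K.subtype
  have hpK : Function.Bijective pK := by
    refine ⟨(injective_iff_map_eq_one _).2 ?_, fun φ => ?_⟩
    · rintro ⟨-, n, hn', rfl⟩ h
      have h' : n ∈ (V (D := D)).normalizerMonoidHom.ker := MonoidHom.mem_ker.2 h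
      rw [Subgroup.normalizerMonoidHom_ker] at h'
      obtain ⟨σ, hσ⟩ := hrange ⟨n, h'⟩
      have hn2 : mk n = fA σ := hσ.symm
      have h1 := hinter σ (hn2 ▸ ⟨n, hn', rfl⟩)
      refine Subtype.ext ?_
      show mk n = 1
      rw [hn2, h1, map_one]
    · obtain ⟨g, hg, h⟩ := P.induces hF φ
      exact ⟨⟨mk ⟨g, P.LU_le hF hg⟩, ⟨_, hg, rfl⟩⟩, MulEquiv.ext fun u => Subtype.ext (h u)⟩
  exact ⟨(MulEquiv.ofBijective F ⟨hFinj, hFsurj⟩).symm.trans
    (((MulEquiv.ofBijective pK hpK).trans eV).prodCongr (MulEquiv.refl _))⟩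

end Pt

end H7.Fi24L
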