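import Cfsg.Agent.H7.Fi24L.Struct
import Cfsg.Agent.H6.Basic

/-!
The largest normal two-subgroup of the centraliser of the line is special.
-/

set_option autoImplicit false
set_option maxRecDepth 100000

namespace H7.Fi24L

open H16.Fi24 Cfsg

universe u

variable {G : Type u} [Group G] {z : G}
  {Q : Subgroup (Subgroup.centralizer ({z} : Set G))} [Q.Normal] [Finite G]
  {D : Model z Q} (P : Pt D) (hF : IsOfLargeFischerTypeAt z Q)

/-- Elements of the normal subgroup fixing the complement are trivial. -/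
theorem Nn_eq_one (hK0 : Nat.card K0 = 9797760) {g : Equiv.Perm W} (hg : g ∈ Nn)
    (h : ∀ v, perpU v → g v = v) : g = 1 := by
  classical
  have hd : nList.Nodup := List.Nodup.of_map _ nList_distinct
  have hlen : nList.length = 16 := by simp [nList, sigs]
  have hmem : g ∈ nList := by
    by_contra hn
    have hsub : insert g nList.toFinset ⊆ (Finset.univ.filter fun x => x ∈ Nn) := fun x hx => by
      rcases Finset.mem_insert.1 hx with rfl | hx
      · simpa using hg
      · simpa using nList_mem x (by simpa using hx)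
    have hle := Finset.card_le_card hsub
    rw [Finset.card_insert_of_notMem (by simpa using hn), List.toFinset_card_of_nodup hd, hlen,
      ← Fintype.card_subtype, ← Nat.card_eq_fintype_card, (structure_stab hK0).1] at hle
    omega
  refine List.inj_on_of_nodup_map nList_distinct hmem (by simp [nList]) ?_
  exact List.map_congr_left fun v hv => h v (probes_perp v hv)

namespace Pt

/-- The join of the extraspecial groups at the members of the line. -/
def LU : Subgroup G := ⨆ u ∈ ((V (D := D) : Set G) \ {1}), Qf u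

/-- The normaliser of the line. -/
abbrev NV : Subgroup G := Subgroup.normalizer ((V (D := D) : Subgroup G) : Set G)

include P hF in
theorem hS : ∀ u ∈ V (D := D), u ≠ 1 → ∃ g : G, g * z * g⁻¹ = u := fun _ hu h1 => P.sing hF hu h1

include P hF in
theorem hO : ∀ u ∈ V (D := D), ∀ v ∈ V (D := D), u ≠ 1 → v ≠ 1 → v ∈ Qf u :=
  fun _ hu _ hv h1 _ => P.orth hF hu hv h1

include P hF in
theorem LU_le : LU (D := D) ≤ NV (D := D) := by
  intro g hg
  rw [Subgroup.mem_normalizer_iff]
  have h1 := H99.LargeExtra.LU_conj_mem (largeExtra hF) (P.hS hF) (P.hO hF) (LU := LU (D := D)) rfl hg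
  have h2 := H99.LargeExtra.LU_conj_mem (largeExtra hF) (P.hS hF) (P.hO hF) (LU := LU (D := D)) rfl
    (inv_mem hg)
  refine fun v => ⟨h1 v, fun hv => ?_⟩
  simpa [mul_assoc] using h2 _ hv

include P hF in
theorem induces (φ : ↥(V (D := D)) ≃* ↥(V (D := D))) :
    ∃ g ∈ LU (D := D), ∀ u : ↥(V (D := D)), g * (u : G) * g⁻¹ = ((φ u : ↥(V (D := D))) : G) :=
  H99.LargeExtra.LU_induces (largeExtra hF) (fun _ hu => V_sq hF hu) (P.hS hF) (P.hO hF) rfl φ

include P hF in
theorem exists_to {u : G} (hu : u ∈ V (D := D)) (h1 : u ≠ 1) :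
    ∃ g ∈ NV (D := D), g * z * g⁻¹ = u := by
  have hz1 : z ≠ 1 := fun h => by
    have := hz hF
    rw [h, orderOf_one] at this
    omega
  obtain ⟨φ, hφ⟩ := exists_swap (V := ↥(V (D := D))) (fun v => Subtype.ext (V_sq hF v.2)) (V_card hF)
    (u := ⟨z, z_mem⟩) (v := ⟨u, hu⟩) (fun h => hz1 (congrArg Subtype.val h))
    (fun h => h1 (congrArg Subtype.val h))
  obtain ⟨g, hg, hgφ⟩ := P.induces hF φ
  exact ⟨g, P.LU_le hF hg, by rw [hgφ ⟨z, z_mem⟩, hφ]⟩

include P hF in
theorem V_le_CV : V (D := D) ≤ CV (D := D) := fun v hv =>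
  Subgroup.mem_centralizer_iff.2 fun t ht => by
    have hi : ∀ w ∈ V (D := D), w⁻¹ = w := fun w hw => inv_eq_of_mul_eq_one_right (V_sq hF hw)
    have := hi _ (mul_mem ht hv)
    rw [mul_inv_rev, hi _ ht, hi _ hv] at this
    exact this.symm

include P hF in
theorem V_le_R0 : V (D := D) ≤ R0 (D := D) := by
  refine P.le_R0 hF _ (P.V_le_CV hF) (IsPGroup.of_card (n := 3) (V_card hF)) fun c hc v hv => ?_
  rw [(Subgroup.mem_centralizer_iff.1 hc v hv).symm, mul_inv_cancel_right]
  exact hv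

/-- The part inside the extraspecial group. -/
abbrev KQ : Subgroup G := preW D PSub

include P hF in
theorem KQ_le : KQ (D := D) ≤ R0 (D := D) := by
  intro g hg
  obtain ⟨c, rfl, hc⟩ := P.ker_mem.2 hg
  rw [mem_R0, hc]
  exact one_mem _

include P hF in
/-- Elements of the radical move the inner part within the line. -/
theorem comm_KQ {q r : G} (hq : q ∈ KQ (D := D)) (hr : r ∈ R0 (D := D)) :
    r * q * r⁻¹ * q⁻¹ ∈ V (D := D) := by
  obtain ⟨x, hx, rfl, hp⟩ := (mem_preW D).1 hq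
  obtain ⟨c, hc, rfl⟩ := hr
  have hn : rV c ∈ Nn := hc
  have hxi : D.Φ x⁻¹ = D.Φ x := by
    have := D.map_mul x hx x⁻¹ (inv_mem hx)
    rw [mul_inv_cancel, phi_one] at this
    exact (eq_neg_of_add_eq_zero_right this.symm).trans (neg_eq_of_add_eq_zero_right (add_self_W _))
  have hcx : toC c * x * (toC c)⁻¹ ∈ Q := Subgroup.Normal.conj_mem inferInstance x hx _
  refine (mem_preW D).2 ⟨toC c * x * (toC c)⁻¹ * x⁻¹, mul_mem hcx (inv_mem hx), rfl, ?_⟩
  show inU _
  rw [D.map_mul _ hcx _ (inv_mem hx), hxi, ← D.conj _ x hx]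
  exact hn.2 _ hp

include P hF in
theorem KQ_conj {c : G} (hc : c ∈ CV (D := D)) {q : G} (hq : q ∈ KQ (D := D)) :
    c * q * c⁻¹ ∈ KQ (D := D) := by
  obtain ⟨d, rfl, hd⟩ := P.ker_mem.2 hq
  refine P.ker_mem.1 ⟨⟨c, hc⟩ * d * (⟨c, hc⟩)⁻¹, rfl, ?_⟩
  rw [_root_.map_mul, _root_.map_mul, hd, mul_one, map_inv, mul_inv_cancel]

include P hF in
theorem KQ_card : Nat.card (KQ (D := D)) = 2048 := by
  rw [KQ, card_preW D (hz hF), card_PSub]

include P hF in
/-- The radical is the product of the inner part and a conjugate of it. -/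
theorem decomp {g : G} (hg : g ∈ NV (D := D)) (hgz : g * z * g⁻¹ = (P.a : G)) {r : G}
    (hr : r ∈ R0 (D := D)) :
    ∃ q ∈ KQ (D := D), ∃ s ∈ (KQ (D := D)).map (MulAut.conj g).toMonoidHom, r = q * s := by
  classical
  set S := (KQ (D := D)).map (MulAut.conj g).toMonoidHom with hSdef
  have hSR : S ≤ R0 (D := D) := by
    rintro - ⟨q, hq, rfl⟩
    exact P.R0_conj hF hg (P.KQ_le hF hq)
  set S' := S.subgroupOf (CV (D := D))
  have hmap : S'.map (rV (D := D)) ≤ Nn := by
    rintro - ⟨c, hc, rfl⟩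
    exact mem_R0.1 (hSR hc)
  have heq : S'.map (rV (D := D)) = Nn := by
    refine Subgroup.eq_of_le_of_card_ge hmap ?_
    rw [(structure_stab D.card_K0).1]
    let f := (rV (D := D)).comp S'.subtype
    have h := f.ker.card_mul_index
    rw [Subgroup.index_ker, MonoidHom.range_comp, Subgroup.range_subtype,
      Nat.card_congr (Subgroup.subgroupOfEquivOfLe (hSR.trans R0_le)).toEquiv,
      show Nat.card S = 2048 from (Subgroup.card_map_of_injective (MulAut.conj g).injective).trans (P.KQ_card hF)] at h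
    have hA := P.fused hF
    have hk : Nat.card f.ker ≤ 2 ^ 7 := by
      refine le_trans (Nat.card_le_card_of_injective (fun x : f.ker =>
        (⟨((x.1.1 : CV (D := D)) : G), ?_, ?_⟩ :
          ↥(up Q ⊓ (up Q).map (MulAut.conj P.ga).toMonoidHom))) ?_) hA.inf_le
      · obtain ⟨y, hy, e, -⟩ := (mem_preW D).1 (P.ker_mem.1 ⟨x.1.1, rfl, x.2⟩)
        rw [← e]
        exact mem_up.2 hy
      · have hs : ((x.1.1 : CV (D := D)) : G) ∈ S := x.1.2
        obtain ⟨q, hq, e⟩ := hs
        obtain ⟨y, hy, rfl, -⟩ := (mem_preW D).1 hq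
        have := (largeExtra hF).mem_Q_conj g (x := z) (a := (y : G)) (by rw [Qf_z hF]; exact mem_up.2 hy)
        rw [hgz, ← P.hga, Qf_conj hF] at this
        rw [← e]
        exact this
      · intro a b e
        exact Subtype.ext (Subtype.ext (Subtype.ext (congrArg Subtype.val e :)))
    by_contra hn
    have := Nat.mul_le_mul hk (show Nat.card (S'.map (rV (D := D))) ≤ 15 by omega)
    omega
  obtain ⟨c, hc, rfl⟩ := hr
  obtain ⟨s, hs, e⟩ : rV c ∈ S'.map (rV (D := D)) := heq ▸ hc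
  refine ⟨(c : G) * (s : G)⁻¹, P.ker_mem.1 ⟨c * s⁻¹, rfl, ?_⟩, s, hs, ?_⟩
  · rw [_root_.map_mul, map_inv, e, mul_inv_cancel]
  · exact (inv_mul_cancel_right _ _).symm

include P hF in
theorem comm_R0 {r r' : G} (hr : r ∈ R0 (D := D)) (hr' : r' ∈ R0 (D := D)) :
    r * r' * r⁻¹ * r'⁻¹ ∈ V (D := D) := by
  obtain ⟨g, hg, hgz⟩ := P.exists_to hF P.a_mem (fun h => u0_ne (P.haΦ.symm.trans
    ((D.eq_zero _ P.haQ).2 (Or.inl h))))
  have hinv : ∀ q ∈ KQ (D := D), ∀ t ∈ R0 (D := D), q * t * q⁻¹ * t⁻¹ ∈ V (D := D) := fun q hq t ht => by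
    have := inv_mem (P.comm_KQ hF hq ht)
    simpa [mul_assoc] using this
  obtain ⟨q, hq, s, ⟨p, hp, rfl⟩, rfl⟩ := P.decomp hF hg hgz hr
  set t := g⁻¹ * r' * g
  have ht : t ∈ R0 (D := D) := by
    have := P.R0_conj hF (inv_mem hg) hr'
    simpa using this
  have h1 := hinv q hq r' hr'
  have h2 := (Subgroup.mem_normalizer_iff.1 hg _).1 (hinv p hp t ht)
  have hc := Subgroup.mem_centralizer_iff.1 (R0_le (P.KQ_le hF hq)) _ h2
  set v := g * (p * t * p⁻¹ * t⁻¹) * g⁻¹ with hv
  have e : q * (MulAut.conj g).toMonoidHom p * r' * (q * (MulAut.conj g).toMonoidHom p)⁻¹ * r'⁻¹ =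
      (q * v * q⁻¹) * (q * r' * q⁻¹ * r'⁻¹) := by
    rw [hv]
    simp only [MulEquiv.coe_toMonoidHom, MulAut.conj_apply, t]
    group
  rw [e, ← hc, mul_inv_cancel_right]
  exact mul_mem h2 h1

include P hF in
theorem sq_R0 {r : G} (hr : r ∈ R0 (D := D)) : r * r ∈ V (D := D) := by
  obtain ⟨g, hg, hgz⟩ := P.exists_to hF P.a_mem (fun h => u0_ne (P.haΦ.symm.trans
    ((D.eq_zero _ P.haQ).2 (Or.inl h))))
  have hsq : ∀ q ∈ KQ (D := D), q * q ∈ V (D := D) := by
    intro q hq
    obtain ⟨x, hx, rfl, -⟩ := (mem_preW D).1 hq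
    refine (mem_preW D).2 ⟨x * x, mul_mem hx hx, rfl, Or.inl ?_⟩
    rw [D.map_mul x hx x hx, add_self_W]
  obtain ⟨q, hq, s, ⟨p, hp, rfl⟩, rfl⟩ := P.decomp hF hg hgz hr
  set s := (MulAut.conj g).toMonoidHom p with hs
  have hsR : s ∈ R0 (D := D) := P.R0_conj hF hg (P.KQ_le hF hp)
  have hs2 : s * s ∈ V (D := D) := by
    have := (Subgroup.mem_normalizer_iff.1 hg _).1 (hsq p hp)
    rw [hs, ← _root_.map_mul]
    exact this
  have h := P.comm_R0 hF (inv_mem (P.KQ_le hF hq)) hsR
  rw [inv_inv] at h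
  have e : q * s * (q * s) = (q * q) * (q⁻¹ * s * q * s⁻¹) * (s * s) := by group
  rw [e]
  exact mul_mem (mul_mem (hsq q hq) h) hs2

include P hF in
theorem center_R0 : (Subgroup.center ↥(R0 (D := D))).map (R0 (D := D)).subtype = V (D := D) := by
  refine le_antisymm ?_ fun v hv => ?_
  · rintro - ⟨r, hr, rfl⟩
    obtain ⟨c, hc, hcr⟩ := r.2
    have hn : rV c ∈ Nn := hc
    have hcomm : ∀ t ∈ R0 (D := D), t * (r : G) = r * t := fun t ht =>
      congrArg Subtype.val (Subgroup.mem_center_iff.1 hr ⟨t, ht⟩)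
    have h1 : rV c = 1 := by
      refine Nn_eq_one D.card_K0 hn fun v hv => ?_
      obtain ⟨x, hx, rfl⟩ := D.surj v
      have hxK : (x : G) ∈ KQ (D := D) := (mem_preW D).2 ⟨x, hx, rfl, hv⟩
      have e : toC c * x * (toC c)⁻¹ = x := mul_inv_eq_iff_eq_mul.2 (Subtype.ext (by
        have h := hcomm _ (P.KQ_le hF hxK)
        rw [← hcr] at h
        exact h.symm))
      show D.ρ (toC c) (D.Φ x) = D.Φ x
      rw [D.conj _ x hx, e]
    obtain ⟨x, hx, e, hp⟩ := (mem_preW D).1 (P.ker_mem.1 ⟨c, rfl, h1⟩)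
    refine (mem_preW D).2 ⟨x, hx, e.trans hcr, perp_dual fun v hv => ?_⟩
    obtain ⟨y, hy, rfl⟩ := D.surj v
    refine (D.comm x hx y hy).1 (Subtype.ext ?_)
    have h := hcomm _ (P.KQ_le hF ((mem_preW D).2 ⟨y, hy, rfl, hv⟩))
    rw [← hcr, show (CV (D := D)).subtype c = (x : G) from e.symm] at h
    exact h.symm
  · refine ⟨⟨v, P.V_le_R0 hF hv⟩, Subgroup.mem_center_iff.2 fun t => Subtype.ext ?_, rfl⟩
    exact (Subgroup.mem_centralizer_iff.1 (R0_le t.2) v hv).symm

theorem pair_witness : ∃ v w : W, bfC v u0 = 0 ∧ bfC v u1 = 0 ∧ bfC w u0 = 0 ∧ bfC w u1 = 0 ∧ bfC v w = 1 :=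
  ⟨![(1, 0), (1, 0), 0, 0, 0, 0], ![(0, 1), 0, (0, 1), 0, 0, 0], by decide +kernel⟩

include P hF in
theorem special : Cfsg.IsSpecial 2 ↥(R0 (D := D)) := by
  have := Fact.mk Nat.prime_two
  set R := R0 (D := D)
  have hmem : ∀ r : R, r ∈ Subgroup.center R ↔ (r : G) ∈ V (D := D) := fun r => by
    rw [← P.center_R0 hF]
    exact (Subgroup.mem_map_iff_mem (f := R.subtype) Subtype.val_injective).symm
  have hcle : commutator R ≤ Subgroup.center R := by
    rw [commutator_def, Subgroup.commutator_le]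
    intro x _ y _
    rw [hmem, commutatorElement_def]
    exact P.comm_R0 hF x.2 y.2
  have hz' : ∀ g ∈ NV (D := D), ∀ r : R, r ∈ commutator R → ∀ h : g * (r : G) * g⁻¹ ∈ R,
      (⟨_, h⟩ : R) ∈ commutator R := by
    intro g hg r hr h
    have hN : ∀ n : G, n ∈ R ↔ (MulAut.conj g).toMonoidHom n ∈ R := fun n => by
      refine ⟨fun hn => P.R0_conj hF hg hn, fun hn => ?_⟩
      have := P.R0_conj hF (inv_mem hg) hn
      simpa [mul_assoc] using this
    let α : R →* R := ((MulAut.conj g).toMonoidHom.comp R.subtype).codRestrict R fun n => (hN n).1 n.2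
    have : α r ∈ commutator R := by
      have h2 : (commutator R).map α ≤ commutator R := by
        rw [commutator_def, Subgroup.map_commutator]
        exact Subgroup.commutator_mono le_top le_top
      exact h2 ⟨r, hr, rfl⟩
    exact this
  have hzc : (⟨z, P.V_le_R0 hF z_mem⟩ : R) ∈ commutator R := by
    obtain ⟨v, w, h1, h2, h3, h4, h5⟩ := pair_witness
    obtain ⟨x, hx, rfl⟩ := D.surj v
    obtain ⟨y, hy, rfl⟩ := D.surj w
    rw [← bfC_eq] at h1 h2 h3 h4 h5
    have hxR : (x : G) ∈ R := P.KQ_le hF ((mem_preW D).2 ⟨x, hx, rfl, h1, h2⟩)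
    have hyR : (y : G) ∈ R := P.KQ_le hF ((mem_preW D).2 ⟨y, hy, rfl, h3, h4⟩)
    have hcom : (x : G) * y * (x : G)⁻¹ * (y : G)⁻¹ = z := by
      have e : D.Φ (x * y * x⁻¹) = D.Φ y := by
        rw [← D.conj x y hy, D.rho_Q hx]
        rfl
      rcases D.eq_or_mul (Subgroup.Normal.conj_mem inferInstance y hy x) hy e with h | h
      · exfalso
        have := (D.comm x hx y hy).1 (mul_inv_eq_iff_eq_mul.1 (Subtype.ext h))
        rw [h5] at this
        exact absurd this (by decide)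
      · rw [show (x : G) * y * (x : G)⁻¹ = (y : G) * z from h]
        have : (y : G) * z = z * y := Subgroup.mem_centralizer_singleton_iff.1 y.2
        rw [this, mul_inv_cancel_right]
    have := Subgroup.commutator_mem_commutator (Subgroup.mem_top (⟨x, hxR⟩ : R))
      (Subgroup.mem_top (⟨y, hyR⟩ : R))
    rw [← commutator_def] at this
    convert this using 1
    exact Subtype.ext hcom.symm
  have hcge : Subgroup.center R ≤ commutator R := by
    intro r hr
    by_cases h1 : (r : G) = 1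
    · rw [show r = 1 from Subtype.ext h1]
      exact one_mem _
    obtain ⟨g, hg, e⟩ := P.exists_to hF ((hmem r).1 hr) h1
    have := hz' g hg _ hzc (e.symm ▸ r.2)
    convert this using 1
    exact Subtype.ext e.symm
  have hcomm : commutator R = Subgroup.center R := le_antisymm hcle hcge
  refine ⟨P.R0_isPGroup hF, le_antisymm ?_ ?_, hcomm⟩
  · refine H6.frattini_le_of_quotient (p := 2) _ hcle fun g => ?_
    rw [hmem, pow_two]
    exact P.sq_R0 hF g.2
  · rw [← hcomm]
    exact H6.commutator_le_frattini (P.R0_isPGroup hF)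

end Pt

end H7.Fi24L
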