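import Cfsg.Agent.H7.Fi24L.Line
import Cfsg.Agent.H7.Fi24L.Aut

/-!
The centraliser of the line: its image in the model, its largest normal two-subgroup.
-/

set_option autoImplicit false
set_option maxRecDepth 100000

namespace H7.Fi24L

open H16.Fi24 Cfsg

universe u

variable {G : Type u} [Group G] {z : G}
  {Q : Subgroup (Subgroup.centralizer ({z} : Set G))} [Q.Normal] [Finite G]
  {D : Model z Q} (P : Pt D) (hF : IsOfLargeFischerTypeAt z Q)

namespace Pt

/-- The centraliser of the line. -/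
abbrev CV : Subgroup G := Subgroup.centralizer ((V (D := D) : Subgroup G) : Set G)

theorem CV_le : CV (D := D) ≤ Subgroup.centralizer ({z} : Set G) := fun c hc =>
  Subgroup.mem_centralizer_singleton_iff.2 (Subgroup.mem_centralizer_iff.1 hc z z_mem).symm

/-- The inclusion into the centraliser of `z`. -/
noncomputable def toC : CV (D := D) →* Subgroup.centralizer ({z} : Set G) := Subgroup.inclusion CV_le

/-- The action on the space. -/
noncomputable def rV : CV (D := D) →* Equiv.Perm W := D.ρ.comp toC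

theorem CV_comm (c : CV (D := D)) {x : Subgroup.centralizer ({z} : Set G)}
    (hx : (x : G) ∈ V (D := D)) : toC c * x * (toC c)⁻¹ = x := by
  refine mul_inv_eq_iff_eq_mul.2 (Subtype.ext ?_)
  exact (Subgroup.mem_centralizer_iff.1 c.2 _ hx).symm

include P hF in
/-- An element of the other conjugate moving the lift. -/
theorem exists_outer : ∃ g : Subgroup.centralizer ({z} : Set G),
    (g : G) ∈ Qf (P.a : G) ∧ D.ρ g u1 = u0 + u1 := by
  have L := largeExtra hF
  set H : Subgroup G := preW D (AddSubgroup.closure {u0})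
  have hHV : H ≤ V (D := D) := by
    intro t ht
    obtain ⟨x, hx, rfl, h⟩ := (mem_preW D).1 ht
    exact (mem_preW D).2 ⟨x, hx, rfl,
      (AddSubgroup.closure_le USub).2 (by rintro y rfl; exact Or.inr (Or.inl rfl)) h⟩
  have haH : (P.a : G) ∈ H :=
    (mem_preW D).2 ⟨P.a, P.haQ, rfl, P.haΦ.symm ▸ AddSubgroup.subset_closure rfl⟩
  have hzH : z ∈ H := (mem_preW D).2 ⟨zc z, D.zc_mem, rfl, (phi_zc D).symm ▸ zero_mem _⟩
  have hbH : (P.b : G) ∉ H := by
    intro h
    obtain ⟨x, hx, e, h⟩ := (mem_preW D).1 h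
    rw [show x = P.b from Subtype.ext e, P.hbΦ] at h
    let S : AddSubgroup W :=
      { carrier := {w | w = 0 ∨ w = u0}
        zero_mem' := Or.inl rfl
        add_mem' := by
          rintro a b (rfl | rfl) (rfl | rfl) <;> simp [add_self_W]
        neg_mem' := by
          rintro a (rfl | rfl)
          · exact Or.inl neg_zero
          · exact Or.inr (neg_eq_of_add_eq_zero_right (add_self_W u0)) }
    have h2 : u1 ∈ S := (AddSubgroup.closure_le S).2 (by rintro y rfl; exact Or.inr rfl) h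
    exact h2.elim u1_ne (fun e => u01_ne e.symm)
  obtain ⟨g, hg, hgH, hgb⟩ := L.exists_move (t := (P.a : G)) ⟨P.ga, P.hga⟩ haH
    (fun t ht => P.V_le_Qa hF (hHV ht)) (P.b_mem hF) hbH
  refine ⟨⟨g, Subgroup.mem_centralizer_singleton_iff.2 (hgH z hzH)⟩, hg, ?_⟩
  set c : Subgroup.centralizer ({z} : Set G) := ⟨g, Subgroup.mem_centralizer_singleton_iff.2 (hgH z hzH)⟩
  have e : c * P.b * c⁻¹ = P.b * P.a := Subtype.ext hgb
  rw [← P.hbΦ, D.conj c _ P.hbQ, e, D.map_mul _ P.hbQ _ P.haQ, P.hbΦ, P.haΦ, add_comm]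

include P hF in
theorem rV_mem (c : CV (D := D)) : rV c ∈ K0stab u0 := by
  have h0 : D.ρ (toC c) u0 = u0 := by
    rw [← P.haΦ, D.conj _ _ P.haQ, CV_comm c P.a_mem]
  have h1 : D.ρ (toC c) u1 = u1 := by
    rw [← P.hbΦ, D.conj _ _ P.hbQ, CV_comm c P.b_mem_V]
  refine ⟨?_, h0⟩
  refine D.rho_mem _ ?_
  by_contra hc
  obtain ⟨g, hg, hgu⟩ := P.exists_outer hF
  have hA := P.fused hF
  have hg0 : D.ρ g u0 = u0 := by
    have hga : g ∈ att Q P.ga := (mem_att hF _ _).2 (P.hga.symm ▸ hg)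
    rw [← P.haΦ, D.conj g _ P.haQ, hA.comm_s g hga]
  by_cases hgM : g ∈ D.M
  · have h2 : D.ρ g u1 = u1 := by
      rw [u1, (isUni_K0 (D.rho_mem g hgM)).wcomm, hg0]
    rw [hgu] at h2
    exact u0_ne (add_eq_right.1 h2)
  · have hm : toC c * g ∈ D.M :=
      (Subgroup.mul_mem_iff_of_index_two D.index_M).2 (iff_of_false hc hgM)
    have h2 : D.ρ (toC c * g) u1 = u1 := by
      have h := (isUni_K0 (D.rho_mem _ hm)).wcomm u0
      rw [show wW u0 = u1 from rfl] at h
      rw [h, _root_.map_mul, Equiv.Perm.mul_apply, hg0, h0]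
      rfl
    rw [_root_.map_mul, Equiv.Perm.mul_apply, hgu, D.rho_add, h0, h1] at h2
    exact u0_ne (add_eq_right.1 h2)

include P hF in
theorem rV_surj {k : Equiv.Perm W} (hk : k ∈ K0stab u0) : ∃ c : CV (D := D), rV c = k := by
  obtain ⟨m, -, rfl⟩ := D.exists_rho hk.1
  obtain ⟨y, hy, hys⟩ := P.lift_a m hk.2
  have L := largeExtra hF
  set h := y * m with hdef
  have hρ : D.ρ h = D.ρ m := by rw [hdef, _root_.map_mul, D.rho_Q hy, one_mul]
  have hb : h * P.b * h⁻¹ ∈ Q := Subgroup.Normal.conj_mem inferInstance _ P.hbQ h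
  have eb : D.Φ (h * P.b * h⁻¹) = D.Φ P.b := by
    rw [← D.conj h _ P.hbQ, hρ, P.hbΦ]
    exact fix_u1 hk
  -- adjust the lift
  obtain ⟨w, hwQ, hwa, hwb⟩ : ∃ w ∈ Q, w * P.a * w⁻¹ = P.a ∧ w * (h * P.b * h⁻¹) * w⁻¹ = P.b := by
    rcases D.eq_or_mul P.hbQ hb eb.symm with e | e
    · exact ⟨1, one_mem _, by group, by rw [inv_one, mul_one, one_mul]; exact (Subtype.ext e).symm⟩
    · obtain ⟨v, hv0, hv1⟩ := bf_pairs.2.1
      obtain ⟨w, hw, rfl⟩ := D.surj v
      refine ⟨w, hw, ?_, ?_⟩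
      · exact mul_inv_eq_iff_eq_mul.2 ((D.comm w hw _ P.haQ).2 (P.haΦ.symm ▸ hv0))
      · have hne : ¬ w * (h * P.b * h⁻¹) = h * P.b * h⁻¹ * w := fun he => by
          have := (D.comm w hw _ hb).1 he
          rw [eb, P.hbΦ, hv1] at this
          exact absurd this (by decide)
        have e2 : D.Φ (w * (h * P.b * h⁻¹) * w⁻¹) = D.Φ (h * P.b * h⁻¹) := by
          rw [← D.conj w _ hb, D.rho_Q hw]
          rfl
        rcases D.eq_or_mul (Subgroup.Normal.conj_mem inferInstance _ hb w) hb e2 with e3 | e3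
        · exact absurd (mul_inv_eq_iff_eq_mul.1 (Subtype.ext e3)) hne
        · exact Subtype.ext (e3.trans e.symm)
  set c := w * h with cdef
  have hca : c * P.a * c⁻¹ = P.a := by
    rw [cdef, show w * h * P.a * (w * h)⁻¹ = w * (h * P.a * h⁻¹) * w⁻¹ by group, hys, hwa]
  have hcb : c * P.b * c⁻¹ = P.b := by
    rw [cdef, show w * h * P.b * (w * h)⁻¹ = w * (h * P.b * h⁻¹) * w⁻¹ by group, hwb]
  have hcV : (c : G) ∈ CV (D := D) := by
    rw [Subgroup.mem_centralizer_iff]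
    intro t ht
    refine P.V_induction (p := fun t => t * (c : G) = c * t) (by simp) ?_ ?_ ?_ ?_ ht
    · exact (Subgroup.mem_centralizer_singleton_iff.1 c.2).symm
    · exact (congrArg Subtype.val (mul_inv_eq_iff_eq_mul.1 hca)).symm
    · exact (congrArg Subtype.val (mul_inv_eq_iff_eq_mul.1 hcb)).symm
    · intro p q hp hq
      rw [mul_assoc, hq, ← mul_assoc, hp, mul_assoc]
  refine ⟨⟨c, hcV⟩, ?_⟩
  show D.ρ c = D.ρ m
  rw [cdef, _root_.map_mul, D.rho_Q hwQ, one_mul, hρ]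

include P hF in
theorem map_comap_rV {N : Subgroup (Equiv.Perm W)} (hN : N ≤ K0stab u0) :
    (N.comap (rV (D := D))).map (rV (D := D)) = N := by
  refine le_antisymm (Subgroup.map_comap_le _ _) fun k hk => ?_
  obtain ⟨c, rfl⟩ := P.rV_surj hF (hN hk)
  exact ⟨c, hk, rfl⟩

theorem ker_rV (c : CV (D := D)) (hc : rV c = 1) : toC c ∈ Q := by
  exact D.ker.le (MonoidHom.mem_ker.2 hc)

include P in
theorem ker_mem {g : G} :
    (∃ c : CV (D := D), (c : G) = g ∧ rV c = 1) ↔ g ∈ preW D PSub := by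
  constructor
  · rintro ⟨c, rfl, hc⟩
    have hQ := ker_rV c hc
    refine (mem_preW D).2 ⟨toC c, hQ, rfl, ⟨?_, ?_⟩⟩
    · rw [← P.haΦ]
      exact (D.comm _ hQ _ P.haQ).1 (mul_inv_eq_iff_eq_mul.1 (CV_comm c P.a_mem))
    · rw [← P.hbΦ]
      exact (D.comm _ hQ _ P.hbQ).1 (mul_inv_eq_iff_eq_mul.1 (CV_comm c P.b_mem_V))
  · intro hg
    obtain ⟨x, hx, rfl, h0, h1⟩ := (mem_preW D).1 hg
    have hxV : (x : G) ∈ CV (D := D) := by
      rw [Subgroup.mem_centralizer_iff]
      intro t ht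
      refine P.V_induction (p := fun t => t * (x : G) = x * t) (by simp) ?_ ?_ ?_ ?_ ht
      · exact (Subgroup.mem_centralizer_singleton_iff.1 x.2).symm
      · exact congrArg Subtype.val ((D.comm _ P.haQ x hx).2 (by rw [P.haΦ, Bf_comm]; exact h0))
      · exact congrArg Subtype.val ((D.comm _ P.hbQ x hx).2 (by rw [P.hbΦ, Bf_comm]; exact h1))
      · intro p q hp hq
        rw [mul_assoc, hq, ← mul_assoc, hp, mul_assoc]
    exact ⟨⟨x, hxV⟩, rfl, D.rho_Q hx⟩

/-- The largest normal two-subgroup of the centraliser of the line. -/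
noncomputable def R0 : Subgroup G := (Nn.comap (rV (D := D))).map (CV (D := D)).subtype

theorem R0_le : R0 (D := D) ≤ CV (D := D) := Subgroup.map_subtype_le _

theorem mem_R0 {c : CV (D := D)} : (c : G) ∈ R0 (D := D) ↔ rV c ∈ Nn :=
  ⟨fun ⟨d, hd, e⟩ => (Subtype.ext e : d = c) ▸ hd, fun h => ⟨c, h, rfl⟩⟩

include P hF in
theorem R0_card : Nat.card (R0 (D := D)) = 2 ^ 15 := by
  rw [R0, Subgroup.card_map_of_injective (Subgroup.subtype_injective _)]
  let f := (rV (D := D)).comp (Nn.comap (rV (D := D))).subtype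
  have h := f.ker.card_mul_index
  rw [Subgroup.index_ker, MonoidHom.range_comp, Subgroup.range_subtype, P.map_comap_rV hF Nn_le,
    (structure_stab D.card_K0).1] at h
  have hk : Nat.card f.ker = Nat.card (preW D PSub) := by
    refine Nat.card_congr (Equiv.ofBijective
      (fun x => (⟨((x.1.1 : CV (D := D)) : G), P.ker_mem.1 ⟨x.1.1, rfl, x.2⟩⟩ : preW D PSub))
      ⟨fun a b e => ?_, fun y => ?_⟩)
    · exact Subtype.ext (Subtype.ext (Subtype.ext (congrArg Subtype.val e :)))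
    · obtain ⟨c, hc, h1⟩ := P.ker_mem.2 y.2
      exact ⟨⟨⟨c, show rV c ∈ Nn by rw [h1]; exact one_mem _⟩, h1⟩, Subtype.ext hc⟩
  rw [hk, card_preW D (hz hF), card_PSub] at h
  rw [← h]
  norm_num

include P hF in
theorem R0_isPGroup : IsPGroup 2 (R0 (D := D)) := IsPGroup.of_card (n := 15) (P.R0_card hF)

include P hF in
theorem le_R0 (S : Subgroup G) (hS : S ≤ CV (D := D)) (hp : IsPGroup 2 S)
    (hn : ∀ c ∈ CV (D := D), ∀ s ∈ S, c * s * c⁻¹ ∈ S) : S ≤ R0 (D := D) := by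
  intro s hs
  have hle := le_Nn_of_normal D.card_K0 ((S.subgroupOf (CV (D := D))).map rV) ?_
    ((hp.comap_subtype (K := CV (D := D))).map _) ?_
  · exact (mem_R0 (c := ⟨s, hS hs⟩)).2 (hle ⟨⟨s, hS hs⟩, hs, rfl⟩)
  · rintro - ⟨c, -, rfl⟩
    exact P.rV_mem hF c
  · rintro k hk - ⟨c, hc, rfl⟩
    obtain ⟨d, rfl⟩ := P.rV_surj hF hk
    exact ⟨d * c * d⁻¹, hn _ d.2 _ hc, by rw [_root_.map_mul, _root_.map_mul, map_inv]⟩

include P hF in
theorem R0_conj {g : G} (hg : g ∈ Subgroup.normalizer ((V (D := D) : Subgroup G) : Set G)) {r : G}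
    (hr : r ∈ R0 (D := D)) : g * r * g⁻¹ ∈ R0 (D := D) := by
  have hCV : ∀ h ∈ Subgroup.normalizer ((V (D := D) : Subgroup G) : Set G), ∀ c ∈ CV (D := D),
      h * c * h⁻¹ ∈ CV (D := D) := by
    intro h hh c hc
    rw [Subgroup.mem_centralizer_iff]
    intro t ht
    have ht' : h⁻¹ * t * h ∈ V (D := D) := by
      have := (Subgroup.mem_normalizer_iff.1 (inv_mem hh) t).1 ht
      simpa using this
    have e := Subgroup.mem_centralizer_iff.1 hc _ ht'
    calc t * (h * c * h⁻¹) = h * (h⁻¹ * t * h * c) * h⁻¹ := by group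
      _ = h * (c * (h⁻¹ * t * h)) * h⁻¹ := by rw [e]
      _ = _ := by group
  have hle : (R0 (D := D)).map (MulAut.conj g).toMonoidHom ≤ R0 (D := D) := by
    refine P.le_R0 hF _ ?_ ((P.R0_isPGroup hF).map _) ?_
    · rintro - ⟨x, hx, rfl⟩
      exact hCV g hg x (R0_le hx)
    · rintro c hc - ⟨x, hx, rfl⟩
      have hd := hCV g⁻¹ (inv_mem hg) c hc
      rw [inv_inv] at hd
      obtain ⟨x', hx', rfl⟩ := hx
      refine ⟨g⁻¹ * c * g * (x' : G) * (g⁻¹ * c * g)⁻¹, ?_, ?_⟩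
      · refine ⟨⟨_, hd⟩ * x' * (⟨_, hd⟩)⁻¹, ?_, rfl⟩
        show rV _ ∈ Nn
        rw [_root_.map_mul, _root_.map_mul, map_inv]
        exact Nn_conj (P.rV_mem hF _) hx'
      · simp only [MulEquiv.coe_toMonoidHom, MulAut.conj_apply, Subgroup.coe_subtype]
        group
  exact hle ⟨r, hr, rfl⟩

end Pt

end H7.Fi24L
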